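import Cfsg.Prelude
import Cfsg.Agent.Lib.PNilpotent.Basic
import Cfsg.Agent.Lib.Solvable.Core

/-!
# Groups in which the `p'`-subgroups are abelian of exponent dividing `p - 1`: elementary facts
-/

set_option autoImplicit false

namespace CfsgLib.PPrimeAbelian

open Subgroup

variable {p : ℕ} {G : Type*} [Group G]

/-- Every subgroup of order prime to `p` is abelian of exponent dividing `p - 1`. -/
def Hyp (p : ℕ) (G : Type*) [Group G] : Prop :=
  ∀ H : Subgroup G, (Nat.card H).Coprime p → IsMulCommutative H ∧ ∀ x ∈ H, x ^ (p - 1) = 1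

theorem Hyp.subgroup (h : Hyp p G) (K : Subgroup G) : Hyp p K := by
  intro H hH
  obtain ⟨hc, he⟩ := h (H.map K.subtype) (by rwa [card_map_of_injective K.subtype_injective])
  refine ⟨⟨⟨fun a b => Subtype.ext (Subtype.ext ?_)⟩⟩, fun x hx => Subtype.ext (he x ⟨x, hx, rfl⟩)⟩
  exact setLike_mul_comm (s := H.map K.subtype) ⟨_, a.2, rfl⟩ ⟨_, b.2, rfl⟩

theorem Hyp.commute (h : Hyp p G) {H : Subgroup G} (hH : (Nat.card H).Coprime p) {a b : G}
    (ha : a ∈ H) (hb : b ∈ H) : Commute a b := by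
  haveI := (h H hH).1
  exact setLike_mul_comm ha hb

theorem Hyp.prime_dvd_sub_one (h : Hyp p G) [Finite G] [Fact p.Prime] {r : ℕ} [Fact r.Prime]
    (hr : r ∣ Nat.card G) (hrp : r ≠ p) : r ∣ p - 1 := by
  obtain ⟨x, hx⟩ := exists_prime_orderOf_dvd_card' (G := G) r hr
  have hc : (Nat.card (zpowers x)).Coprime p := by
    rw [Nat.card_zpowers, hx]
    exact (Nat.coprime_primes (Fact.out : r.Prime) (Fact.out : p.Prime)).2 hrp
  rw [← hx]
  exact orderOf_dvd_of_pow_eq_one ((h _ hc).2 x (mem_zpowers x))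

theorem Hyp.prime_lt (h : Hyp p G) [Finite G] [hp : Fact p.Prime] {r : ℕ} [Fact r.Prime]
    (hr : r ∣ Nat.card G) (hrp : r ≠ p) : r < p := by
  have h1 := Nat.le_of_dvd (by have := hp.out.two_le; omega) (h.prime_dvd_sub_one hr hrp)
  have := hp.out.two_le
  omega

theorem coprime_of_isPGroup {r : ℕ} [Fact r.Prime] [hp : Fact p.Prime] (hrp : r ≠ p)
    {H : Subgroup G} [Finite H] (hH : IsPGroup r H) : (Nat.card H).Coprime p := by
  obtain ⟨n, hn⟩ := hH.exists_card_eq
  rw [hn]
  exact ((Nat.coprime_primes (Fact.out : r.Prime) hp.out).2 hrp).pow_left n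

/-- A subgroup both of `p`-power order and of order prime to `p` is trivial. -/
theorem eq_bot_of_isPGroup_of_coprime [Finite G] [Fact p.Prime] {H : Subgroup G}
    (h1 : IsPGroup p H) (h2 : (Nat.card H).Coprime p) : H = ⊥ := by
  obtain ⟨n, hn⟩ := h1.exists_card_eq
  rw [← card_eq_one, hn]
  rcases Nat.eq_zero_or_pos n with h0 | h0
  · rw [h0, pow_zero]
  · rw [hn, Nat.coprime_pow_left_iff h0] at h2
    exact absurd h2 (by
      rw [Nat.Prime.coprime_iff_not_dvd (Fact.out : p.Prime)]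
      simp)

theorem isPGroup_zpowers {x : G} {k : ℕ} (hx : orderOf x = p ^ k) : IsPGroup p (zpowers x) :=
  IsPGroup.of_card (n := k) (by rw [Nat.card_zpowers, hx])

theorem orderOf_eq_pow_of_mem [Finite G] [Fact p.Prime] {H : Subgroup G} (hH : IsPGroup p H) {x : G}
    (hx : x ∈ H) : ∃ k, orderOf x = p ^ k := by
  obtain ⟨k, hk⟩ := (hH.to_le ((zpowers_le).2 hx)).exists_card_eq
  exact ⟨k, by rwa [Nat.card_zpowers] at hk⟩

theorem coprime_of_mem {H : Subgroup G} (hH : (Nat.card H).Coprime p) {x : G} (hx : x ∈ H) :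
    (orderOf x).Coprime p :=
  hH.coprime_dvd_left (by simpa [Nat.card_zpowers] using card_dvd_of_le (zpowers_le.2 hx))

theorem eq_one_of_pow_coprime [Fact p.Prime] {x : G} {k : ℕ} (hx : orderOf x = p ^ k)
    (hc : (orderOf x).Coprime p) : x = 1 := by
  rw [← orderOf_eq_one_iff, hx]
  rcases Nat.eq_zero_or_pos k with h0 | h0
  · rw [h0, pow_zero]
  · rw [hx, Nat.coprime_pow_left_iff h0] at hc
    exact absurd hc (by
      rw [Nat.Prime.coprime_iff_not_dvd (Fact.out : p.Prime)]
      simp)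

/-- A nontrivial element has a power of prime order. -/
theorem exists_pow_prime [Finite G] {x : G} (hx : x ≠ 1) :
    ∃ (r n : ℕ), r.Prime ∧ r ∣ orderOf x ∧ orderOf (x ^ n) = r := by
  obtain ⟨r, hr, hd⟩ := Nat.exists_prime_and_dvd (mt orderOf_eq_one_iff.1 hx)
  exact ⟨r, orderOf x / r, hr, hd, orderOf_pow_orderOf_div (orderOf_pos x).ne' hd⟩

/-- An elementary abelian `r`-group moved by a `p`-element has order at least `r³`, if `r < p` and
`5 ≤ p`. -/
theorem cube_le_card [Finite G] [hp : Fact p.Prime] (h5 : 5 ≤ p) {r : ℕ} [hr : Fact r.Prime]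
    (hrp : r < p) {V : Subgroup G} (hV : IsPGroup r V) {y : G} {k : ℕ} (hy : orderOf y = p ^ k)
    (hyV : y ∈ normalizer (V : Set G)) (hmove : ∃ v ∈ V, y * v ≠ v * y) :
    r ^ 3 ≤ Nat.card V := by
  obtain ⟨f, hf⟩ := hV.exists_card_eq
  by_contra hlt
  rw [hf, not_le, Nat.pow_lt_pow_iff_right hr.out.one_lt] at hlt
  let S : MulAction (zpowers y) V :=
    { smul := fun g v => ⟨(g : G) * v * (g : G)⁻¹,
        (mem_normalizer_iff.1 ((zpowers_le.2 hyV) g.2) v).1 v.2⟩
      one_smul := fun v => Subtype.ext (show (1 : G) * v * (1 : G)⁻¹ = v by simp)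
      mul_smul := fun g g' v => Subtype.ext (by
        show ((g * g' : zpowers y) : G) * v * ((g * g' : zpowers y) : G)⁻¹ =
          (g : G) * ((g' : G) * v * (g' : G)⁻¹) * (g : G)⁻¹
        simp [mul_assoc]) }
  have hmod := (isPGroup_zpowers hy).card_modEq_card_fixedPoints V
  set F : Subgroup G := V ⊓ centralizer {y}
  have hF : Nat.card (MulAction.fixedPoints (zpowers y) V) = Nat.card F := by
    refine Nat.card_congr
      { toFun := fun v => ⟨(v.1 : G), v.1.2, ?_⟩
        invFun := fun v => ⟨⟨v, v.2.1⟩, fun g => Subtype.ext ?_⟩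
        left_inv := fun v => rfl
        right_inv := fun v => rfl }
    · have h1 := congrArg Subtype.val (v.2 ⟨y, mem_zpowers y⟩)
      change y * (v.1 : G) * y⁻¹ = (v.1 : G) at h1
      exact mem_centralizer_singleton_iff.2 (eq_mul_of_mul_inv_eq h1).symm
    · show (g : G) * v * (g : G)⁻¹ = v
      have hvy : Commute y (v : G) := (mem_centralizer_singleton_iff.1 v.2.2).symm
      obtain ⟨n, hn⟩ := mem_zpowers_iff.1 g.2
      rw [← hn, (hvy.zpow_left n).eq, mul_inv_cancel_right]
  obtain ⟨c, hc⟩ := (hV.to_le (inf_le_left (b := centralizer {y}))).exists_card_eq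
  rw [hF, hf, show Nat.card F = r ^ c from hc] at hmod
  have hcf : c < f := by
    obtain ⟨v, hv, hne⟩ := hmove
    have hlt' : F < V := lt_of_le_of_ne inf_le_left fun he => hne (by
      have h1 : v ∈ F := he.symm ▸ hv
      exact (mem_centralizer_singleton_iff.1 h1.2).symm)
    have h1 : Nat.card F < Nat.card V :=
      lt_of_le_of_ne (card_le_of_le hlt'.le) fun e => hlt'.ne (eq_of_le_of_card_ge hlt'.le e.ge)
    rw [hf, show Nat.card F = r ^ c from hc] at h1
    exact (Nat.pow_lt_pow_iff_right hr.out.one_lt).1 h1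
  have hd : p ∣ r ^ f - r ^ c :=
    (Nat.modEq_iff_dvd' (Nat.pow_le_pow_right hr.out.pos hcf.le)).1 hmod.symm
  have hle : f ≤ 2 := by omega
  have hne1 : ¬ p ∣ r - 1 := fun hd1 => by
    have := Nat.le_of_dvd (by have := hr.out.two_le; omega) hd1
    omega
  have hner : ¬ p ∣ r := fun hd1 => by
    have := Nat.le_of_dvd hr.out.pos hd1
    omega
  interval_cases f <;> interval_cases c
  · simp only [pow_one, pow_zero] at hd
    exact hne1 hd
  · rw [pow_zero] at hd
    have h2 : r ^ 2 - 1 = (r + 1) * (r - 1) := by simpa using Nat.sq_sub_sq r 1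
    rw [h2] at hd
    rcases hp.out.dvd_mul.1 hd with h | h
    · have h3 := Nat.le_of_dvd (by omega) h
      have h4 : p = r + 1 := by omega
      rcases hr.out.eq_two_or_odd with h5' | h5'
      · omega
      · rcases hp.out.eq_two_or_odd with h6 | h6 <;> omega
    · exact hne1 h
  · rw [pow_one, show r ^ 2 - r = r * (r - 1) by rw [Nat.mul_sub, mul_one, sq]] at hd
    rcases hp.out.dvd_mul.1 hd with h | h
    exacts [hner h, hne1 h]

/-- The conjugation trick for `p`-power elements acting on a cyclic `r`-group, `r < p`. -/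
theorem pow_modEq_one [hp : Fact p.Prime] {r : ℕ} [hr : Fact r.Prime] (hrp : r < p) {i j k : ℕ}
    (hk : k ^ p ^ j ≡ 1 [MOD r ^ i]) : k ≡ 1 [MOD r ^ i] := by
  rcases Nat.eq_zero_or_pos i with h0 | h0
  · rw [h0, pow_zero]
    exact Nat.modEq_one
  haveI : NeZero (r ^ i) := ⟨pow_ne_zero _ hr.out.ne_zero⟩
  have hk' : ((k : ℕ) : ZMod (r ^ i)) ^ p ^ j = 1 := by
    have := (ZMod.natCast_eq_natCast_iff _ _ _).2 hk
    simpa using this
  have hu : IsUnit (k : ZMod (r ^ i)) := IsUnit.of_pow_eq_one hk' (pow_ne_zero _ hp.out.ne_zero)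
  obtain ⟨u, hu'⟩ := hu
  have h1 : u ^ p ^ j = 1 := Units.ext (by rw [Units.val_pow_eq_pow_val, hu', hk', Units.val_one])
  have h2 : orderOf u ∣ (r ^ i).totient := by
    rw [← ZMod.card_units_eq_totient (r ^ i)]
    exact orderOf_dvd_card
  have h3 : Nat.Coprime (p ^ j) (r ^ i).totient := by
    apply Nat.Coprime.pow_left
    rw [Nat.totient_prime_pow hr.out h0, hp.out.coprime_iff_not_dvd]
    intro hd
    rcases hp.out.dvd_mul.1 hd with h | h
    · have := (Nat.prime_dvd_prime_iff_eq hp.out hr.out).1 (hp.out.dvd_of_dvd_pow h)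
      omega
    · have := Nat.le_of_dvd (by have := hr.out.two_le; omega) h
      omega
  have h4 : u = 1 :=
    orderOf_eq_one_iff.1 (Nat.eq_one_of_dvd_coprimes h3 (orderOf_dvd_of_pow_eq_one h1) h2)
  refine (ZMod.natCast_eq_natCast_iff _ _ _).1 ?_
  rw [← hu', h4, Units.val_one, Nat.cast_one]

end CfsgLib.PPrimeAbelian
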