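import Cfsg.Agent.Lib.PPrimeAbelian.Fixed

/-!
# The count: no minimal counterexample

Every element is a `p`-element or lies in a conjugate of some `M` with nontrivial `p'`-part; both
kinds together are too few.
-/

set_option autoImplicit false
set_option linter.style.haveILetI false
set_option maxHeartbeats 400000

namespace CfsgLib.PPrimeAbelian

open Subgroup
open scoped Pointwise

universe u

variable {p : ℕ} {G : Type u} [Group G] [Finite G] [hp : Fact p.Prime]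

omit [Finite G] hp in
/-- The elements whose order is not a power of `p`. -/
def nonP (p : ℕ) (G : Type u) [Group G] : Set G := {x | ¬ ∃ k, orderOf x = p ^ k}

/-- The nontrivial elements of `Q` with a nontrivial fixed point in `A`. -/
def fixedSet (A Q : Subgroup G) : Set G :=
  {q | q ∈ Q ∧ q ≠ 1 ∧ ∃ a ∈ A, a ≠ 1 ∧ Commute a q}

theorem exists_pprime_part {x : G} (hx : x ∈ nonP p G) :
    ∃ n : ℕ, (orderOf (x ^ n)).Coprime p ∧ x ^ n ≠ 1 := by
  obtain ⟨a, b, hab, hk, hc⟩ := CfsgLib.PNilpotent.exists_pPart_decomp (p := p) x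
  refine ⟨b, hc, fun h => hx ?_⟩
  rw [h, mul_one] at hab
  exact hab ▸ hk

namespace IsClass

variable {A M : Subgroup G}

theorem conj (hM : IsClass p A M) (g : G) :
    IsClass p (MulAut.conj g • A) (MulAut.conj g • M) := by
  have hback : ∀ H : Subgroup G, MulAut.conj g • MulAut.conj g⁻¹ • H = H := fun H => by
    rw [CfsgLib.Solvable.conj_smul_conj_smul, mul_inv_cancel, map_one, one_smul]
  have hcard : ∀ (h : G) (H : Subgroup G), Nat.card (MulAut.conj h • H : Subgroup G) = Nat.card H :=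
    fun h H => CfsgLib.Solvable.card_conj_smul h H
  refine ⟨⟨?_, fun B hAB hB => ?_⟩, fun h => ?_, fun h => ?_,
    pointwise_smul_le_pointwise_smul_iff.2 hM.le, fun H hH hAH => ?_⟩
  · rw [hcard]; exact hM.max.1
  · have h1 : A ≤ MulAut.conj g⁻¹ • B := by
      rw [map_inv]
      exact pointwise_smul_subset_iff.1 hAB
    conv_lhs => rw [← hback B, hM.max.2 _ h1 (by rw [hcard]; exact hB)]
  · refine hM.ne_bot (card_eq_one.1 ?_)
    rw [← hcard g A, h, card_bot]
  · refine hM.ne_top ((card_eq_iff_eq_top M).1 ?_)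
    rw [← hcard g M, h, card_top]
  · have h1 : A ≤ MulAut.conj g⁻¹ • H := by
      rw [map_inv]
      exact pointwise_smul_subset_iff.1 hAH
    have h2 : MulAut.conj g⁻¹ • H ≠ ⊤ := fun e => hH ((card_eq_iff_eq_top H).1 (by
      rw [← hcard g⁻¹ H, e, card_top]))
    rw [← hback H]
    exact pointwise_smul_le_pointwise_smul_iff.2 (hM.largest _ h2 h1)

/-- Two classes with a common prime have the same order. -/
theorem card_le_of_common (c : Cfg p G) (hM : IsClass p A M) {A' M' : Subgroup G}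
    (hM' : IsClass p A' M') {r : ℕ} [Fact r.Prime] (h : r ∣ Nat.card A) (h' : r ∣ Nat.card A') :
    Nat.card A' ≤ Nat.card A := by
  obtain ⟨-, R, hR⟩ := exists_class_sylow c hM.max h
  obtain ⟨-, R', hR'⟩ := exists_class_sylow c hM'.max h'
  obtain ⟨g, hg⟩ := MulAction.exists_smul_eq G R R'
  have hg' : (R' : Subgroup G) ≤ MulAut.conj g • A := by
    rw [← hg, Sylow.coe_subgroup_smul]
    exact pointwise_smul_le_pointwise_smul_iff.2 hR
  have hN := hM.conj g
  obtain ⟨v, hv, hv1⟩ := (bot_or_exists_ne_one (R' : Subgroup G)).resolve_left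
    (R'.ne_bot_of_dvd_card (h'.trans (card_subgroup_dvd_card A')))
  haveI := (c.hyp A' hM'.max.1).1
  have hA'M : A' ≤ MulAut.conj g • M := fun x hx =>
    hN.centralizer_le c (hN.le (hg' hv)) (coprime_of_mem hN.max.1 (hg' hv)) hv1
      (mem_centralizer_singleton_iff.2 (setLike_mul_comm hx (hR' hv)))
  obtain ⟨m, -, hm⟩ := hN.exists_conj_le c hA'M hM'.max.1
  simpa only [CfsgLib.Solvable.card_conj_smul] using card_le_of_le hm

theorem card_eq_of_common (c : Cfg p G) (hM : IsClass p A M) {A' M' : Subgroup G}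
    (hM' : IsClass p A' M') {r : ℕ} [Fact r.Prime] (h : r ∣ Nat.card A) (h' : r ∣ Nat.card A') :
    Nat.card A = Nat.card A' :=
  le_antisymm (card_le_of_common c hM' hM h' h) (card_le_of_common c hM hM' h h')

/-- A conjugate of a `p`-element with a fixed point that again has a fixed point. -/
theorem conj_fixed (hM : IsClass p A M) {A' M' : Subgroup G} (c : Cfg p G)
    (hM' : IsClass p A' M') {y g a a' : G} {k : ℕ} (hy1 : y ≠ 1) (hk : orderOf y = p ^ k)
    (hy' : g * y * g⁻¹ ∈ M') (ha : a ∈ A) (ha1 : a ≠ 1) (hay : Commute a y) (ha' : a' ∈ A')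
    (ha'1 : a' ≠ 1) (hay' : Commute a' (g * y * g⁻¹)) : g * a * g⁻¹ ∈ A' := by
  have hac : (orderOf (g * a * g⁻¹)).Coprime p := by
    rw [show orderOf (g * a * g⁻¹) = orderOf a from (MulAut.conj g).orderOf_eq a]
    exact coprime_of_mem hM.max.1 ha
  refine hM'.mem_of_coprime c ?_ hac
  refine hM'.centralizer_le_of_fixed c hy' (by simpa using hy1) (k := k)
    (((MulAut.conj g).orderOf_eq y).trans hk) ha' ha'1 hay' ?_
  exact mem_centralizer_singleton_iff.2 ((Commute.conj_iff (h := g)).2 hay).eq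

theorem card_nonP_le (hM : IsClass p A M) (c : Cfg p G) (P : Sylow p G)
    (hP : Adapted A M (P : Subgroup G)) :
    {x | x ∈ M ∧ x ∈ nonP p G}.ncard ≤
      Nat.card A * ((fixedSet A ((P : Subgroup G) ⊓ M)).ncard + 1) := by
  classical
  haveI := (c.hyp A hM.max.1).1
  set F' := insert (1 : G) (fixedSet A ((P : Subgroup G) ⊓ M))
  have hsub : {x | x ∈ M ∧ x ∈ nonP p G} ⊆ (fun t : G × G => t.1 * t.2) '' ((A : Set G) ×ˢ F') := by
    rintro x ⟨hxM, hx⟩
    have hx' : x ∈ A ⊔ ((P : Subgroup G) ⊓ M) := hP.symm ▸ hxM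
    obtain ⟨a, ha, q, hq, rfl⟩ := (CfsgLib.Solvable.mem_sup_of_le_normalizer
      (inf_le_right.trans (hM.le_normalizer c))).1 hx'
    refine ⟨(a, q), ⟨ha, ?_⟩, rfl⟩
    rcases eq_or_ne q 1 with h | h
    · exact Set.mem_insert_iff.2 (Or.inl h)
    refine Set.mem_insert_iff.2 (Or.inr ⟨hq, h, ?_⟩)
    obtain ⟨n, hn, hn1⟩ := exists_pprime_part hx
    have hnA : (a * q) ^ n ∈ A := hM.mem_of_coprime c (pow_mem hxM n) hn
    refine ⟨(a * q) ^ n, hnA, hn1, ?_⟩
    have h1 : Commute ((a * q) ^ n) (a * q) := Commute.pow_self _ _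
    have h2 : Commute ((a * q) ^ n) a⁻¹ :=
      Commute.inv_right (show Commute ((a * q) ^ n) a from setLike_mul_comm hnA ha)
    simpa using h2.mul_right h1
  refine (Set.ncard_le_ncard hsub).trans ((Set.ncard_image_le).trans ?_)
  rw [Set.ncard_prod]
  refine Nat.mul_le_mul (le_of_eq ?_) (Set.ncard_insert_le _ _)
  exact (Nat.card_coe_set_eq _).symm

/-- The elements with nontrivial `p'`-part in the conjugates of `M`. -/
def cover (p : ℕ) (M : Subgroup G) : Set G :=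
  {x | x ∈ nonP p G ∧ ∃ g : G, g * x * g⁻¹ ∈ M}

theorem card_cover_le (hM : IsClass p A M) (c : Cfg p G) (P : Sylow p G)
    (hP : Adapted A M (P : Subgroup G)) :
    (cover p M).ncard * Nat.card ((P : Subgroup G) ⊓ M : Subgroup G) ≤
      Nat.card G * ((fixedSet A ((P : Subgroup G) ⊓ M)).ncard + 1) := by
  set T := {x | x ∈ M ∧ x ∈ nonP p G}
  have hsub : cover p M ⊆
      (fun t : (G ⧸ M) × G => t.1.out * t.2 * t.1.out⁻¹) '' ((Set.univ : Set (G ⧸ M)) ×ˢ T) := by
    rintro x ⟨hx, g, hg⟩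
    obtain ⟨m, hm⟩ := QuotientGroup.mk_out_eq_mul M g⁻¹
    set o := (QuotientGroup.mk g⁻¹ : G ⧸ M).out
    have ho : o = g⁻¹ * (m : G) := hm
    refine ⟨(QuotientGroup.mk g⁻¹, o⁻¹ * x * o), ⟨Set.mem_univ _, ?_, ?_⟩, by simp [o, mul_assoc]⟩
    · rw [ho]
      simpa [mul_assoc] using mul_mem (mul_mem (inv_mem m.2) hg) m.2
    · intro ⟨k, hk⟩
      refine hx ⟨k, ?_⟩
      rw [← hk]
      simpa using ((MulAut.conj o⁻¹).orderOf_eq x).symm
  have h1 : (cover p M).ncard ≤ M.index * T.ncard := by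
    refine (Set.ncard_le_ncard hsub).trans ((Set.ncard_image_le).trans (le_of_eq ?_))
    rw [Set.ncard_prod, Set.ncard_univ, index_eq_card]
  have h2 := hM.card_nonP_le c P hP
  calc (cover p M).ncard * Nat.card ((P : Subgroup G) ⊓ M : Subgroup G)
      ≤ M.index * (Nat.card A * ((fixedSet A ((P : Subgroup G) ⊓ M)).ncard + 1)) *
        Nat.card ((P : Subgroup G) ⊓ M : Subgroup G) :=
        Nat.mul_le_mul_right _ (h1.trans (Nat.mul_le_mul_left _ h2))
    _ = M.index * (Nat.card A * Nat.card ((P : Subgroup G) ⊓ M : Subgroup G)) *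
        ((fixedSet A ((P : Subgroup G) ⊓ M)).ncard + 1) := by ring
    _ = _ := by rw [← hM.card_eq_of_adapted c P hP, mul_comm M.index, card_mul_index]

/-- If `P` is not contained in `M`, few elements of `P ∩ M` have fixed points. -/
theorem mul_fixedSet_le (hM : IsClass p A M) (c : Cfg p G) (P : Sylow p G)
    (hP : Adapted A M (P : Subgroup G)) (hnle : ¬ (P : Subgroup G) ≤ M) :
    p * ((fixedSet A ((P : Subgroup G) ⊓ M)).ncard + 1) ≤
      Nat.card ((P : Subgroup G) ⊓ M : Subgroup G) := by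
  classical
  set P₁ := (P : Subgroup G) ⊓ M with hP₁
  set F := fixedSet A P₁
  have hlt : P₁ < (P : Subgroup G) := lt_of_le_of_ne inf_le_left fun h => hnle (h ▸ inf_le_right)
  have hlt' := CfsgLib.PLoc.lt_inf_normalizer_of_pgroup P.isPGroup' hlt
  obtain ⟨g₀, hg₀, hg₀'⟩ := SetLike.exists_of_lt hlt'
  obtain ⟨g, hg, hgM, hgp⟩ : ∃ g ∈ (P : Subgroup G) ⊓ normalizer (P₁ : Set G),
      g ∉ M ∧ g ^ p ∈ M := by
    obtain ⟨e, he⟩ := orderOf_eq_pow_of_mem P.isPGroup' (mem_inf.1 hg₀).1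
    have hex : ∃ j, g₀ ^ p ^ j ∈ M := ⟨e, by rw [← he, pow_orderOf_eq_one]; exact one_mem _⟩
    have h0 : Nat.find hex ≠ 0 := by
      intro h
      have := Nat.find_spec hex
      rw [h, pow_zero, pow_one] at this
      exact hg₀' (mem_inf.2 ⟨(mem_inf.1 hg₀).1, this⟩)
    obtain ⟨j, hj⟩ : ∃ j, Nat.find hex = j + 1 := ⟨_, (Nat.succ_pred_eq_of_ne_zero h0).symm⟩
    refine ⟨g₀ ^ p ^ j, pow_mem hg₀ _, Nat.find_min hex (by omega), ?_⟩
    rw [← pow_mul, ← pow_succ, ← hj]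
    exact Nat.find_spec hex
  have hgn := (mem_inf.1 hg).2
  have hd : ∀ d : ℕ, 0 < d → d < p → g ^ d ∉ M := by
    intro d hd0 hdp hmem
    have hcop : d.Coprime p := ((hp.out.coprime_iff_not_dvd).2 (Nat.not_dvd_of_pos_of_lt hd0 hdp)).symm
    have h1 : g ^ (Nat.gcd d p : ℤ) ∈ M := by
      rw [Nat.gcd_eq_gcd_ab, zpow_add, zpow_mul, zpow_mul]
      refine M.mul_mem (M.zpow_mem ?_ _) (M.zpow_mem ?_ _)
      · rwa [zpow_natCast]
      · rwa [zpow_natCast]
    rw [hcop.gcd_eq_one] at h1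
    exact hgM (by simpa using h1)
  have hFfix : ∀ y ∈ F, ∀ n : ℕ, g ^ n * y * (g ^ n)⁻¹ ∈ P₁ := fun y hy n =>
    (mem_normalizer_iff.1 (pow_mem hgn n) y).1 hy.1
  have hkey : ∀ y ∈ F, ∀ y' ∈ F, ∀ d : ℕ, 0 < d → d < p → g ^ d * y * (g ^ d)⁻¹ ≠ y' := by
    intro y hy y' hy' d hd0 hdp he
    obtain ⟨hyP, hy1, a, ha, ha1, hay⟩ := hy
    obtain ⟨hy'P, hy'1, a', ha', ha'1, hay'⟩ := hy'
    obtain ⟨k, hk⟩ := orderOf_eq_pow_of_mem P.isPGroup' (mem_inf.1 hyP).1
    have h1 := hM.conj_fixed c hM hy1 hk (g := g ^ d) (he ▸ (mem_inf.1 hy'P).2) ha ha1 hay ha' ha'1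
      (he ▸ hay')
    exact hd d hd0 hdp (hM.mem_of_conj c (hM.le ha) (hM.le h1) (coprime_of_mem hM.max.1 ha) ha1)
  have hinj : Set.InjOn (fun t : ℕ × G => g ^ t.1 * t.2 * (g ^ t.1)⁻¹)
      ((Set.Iio p) ×ˢ F) := by
    rintro ⟨n₁, y₁⟩ ⟨hn₁, hy₁⟩ ⟨n₂, y₂⟩ ⟨hn₂, hy₂⟩ he
    simp only at he
    rcases lt_trichotomy n₁ n₂ with h | h | h
    · exfalso
      obtain ⟨d, rfl⟩ := Nat.le.dest h.le
      refine hkey y₂ hy₂ y₁ hy₁ d (by omega) (by simp only [Set.mem_Iio] at hn₂; omega) ?_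
      rw [pow_add] at he
      have := congrArg (fun v => (g ^ n₁)⁻¹ * v * g ^ n₁) he.symm
      simpa [mul_assoc] using this
    · subst h
      simpa using he
    · exfalso
      obtain ⟨d, rfl⟩ := Nat.le.dest h.le
      refine hkey y₁ hy₁ y₂ hy₂ d (by omega) (by simp only [Set.mem_Iio] at hn₁; omega) ?_
      rw [pow_add] at he
      have := congrArg (fun v => (g ^ n₂)⁻¹ * v * g ^ n₂) he
      simpa [mul_assoc] using this
  have hmaps : ∀ t ∈ (Set.Iio p) ×ˢ F,
      (fun t : ℕ × G => g ^ t.1 * t.2 * (g ^ t.1)⁻¹) t ∈ (P₁ : Set G) \ {1} := by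
    rintro ⟨n, y⟩ ⟨-, hy⟩
    exact ⟨hFfix y hy n, fun h => hy.2.1 (by simpa using h)⟩
  have hcard := Set.ncard_le_ncard_of_injOn _ hmaps hinj
  have hIio : (Set.Iio p : Set ℕ).ncard = p := by
    rw [show (Set.Iio p : Set ℕ) = ↑(Finset.range p) by ext; simp, Set.ncard_coe_finset, Finset.card_range]
  rw [Set.ncard_prod, hIio, Set.ncard_sdiff (Set.singleton_subset_iff.2 P₁.one_mem),
    Set.ncard_singleton] at hcard
  rw [show (P₁ : Set G).ncard = Nat.card P₁ from (Nat.card_coe_set_eq _).symm] at hcard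
  obtain ⟨m, hm⟩ := (P.isPGroup'.to_le (inf_le_left : P₁ ≤ _)).exists_card_eq
  rcases Nat.eq_zero_or_pos m with h0 | h0
  · exfalso
    obtain ⟨u, hu, hu1, -⟩ := hM.exists_fpf c P hP
    rw [← hP₁] at hu
    rw [h0, pow_zero, card_eq_one] at hm
    exact hu1 (mem_bot.1 (hm ▸ hu))
  obtain ⟨m, rfl⟩ : ∃ j, m = j + 1 := ⟨m - 1, by omega⟩
  rw [hm, pow_succ'] at hcard ⊢
  have hpos : 0 < p * p ^ m := Nat.mul_pos hp.out.pos (pow_pos hp.out.pos m)
  have h3 : F.ncard < p ^ m := by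
    by_contra hge
    have := Nat.mul_le_mul_left p (not_lt.1 hge)
    omega
  exact Nat.mul_le_mul_left p h3

end IsClass

/-! ## The contradiction -/

theorem card_pElements_le (c : Cfg p G) (P : Sylow p G) {A₀ : Subgroup G}
    (hA₀ : (Nat.card A₀).Coprime p) (hA₀N : A₀ ≤ normalizer ((P : Subgroup G) : Set G))
    (hN : normalizer ((P : Subgroup G) : Set G) = (P : Subgroup G) ⊔ A₀) :
    {x : G | ∃ k, orderOf x = p ^ k}.ncard * Nat.card A₀ ≤ Nat.card G := by
  set N := normalizer ((P : Subgroup G) : Set G) with hNdef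
  have hsub : {x : G | ∃ k, orderOf x = p ^ k} ⊆
      (fun t : (G ⧸ N) × G => t.1.out * t.2 * t.1.out⁻¹) ''
        ((Set.univ : Set (G ⧸ N)) ×ˢ ((P : Subgroup G) : Set G)) := by
    rintro x ⟨k, hk⟩
    obtain ⟨Q, hQ⟩ := (isPGroup_zpowers hk).exists_le_sylow
    obtain ⟨g, hg⟩ := MulAction.exists_smul_eq G P Q
    have hxQ : x ∈ MulAut.conj g • (P : Subgroup G) := by
      rw [← Sylow.coe_subgroup_smul, hg]
      exact hQ (mem_zpowers x)
    rw [CfsgLib.Solvable.mem_conj_smul] at hxQ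
    obtain ⟨m, hm⟩ := QuotientGroup.mk_out_eq_mul N g
    set o := (QuotientGroup.mk g : G ⧸ N).out
    refine ⟨(QuotientGroup.mk g, o⁻¹ * x * o), ⟨Set.mem_univ _, ?_⟩, by simp [o, mul_assoc]⟩
    have h1 := (mem_normalizer_iff.1 (inv_mem m.2) _).1 hxQ
    rw [show o = g * (m : G) from hm]
    simp only [mul_assoc, mul_inv_rev, inv_inv] at h1 ⊢
    exact h1
  have h1 : {x : G | ∃ k, orderOf x = p ^ k}.ncard ≤ N.index * Nat.card (P : Subgroup G) := by
    refine (Set.ncard_le_ncard hsub).trans ((Set.ncard_image_le).trans (le_of_eq ?_))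
    rw [Set.ncard_prod, Set.ncard_univ, index_eq_card]
    rfl
  have hcard : Nat.card N = Nat.card (P : Subgroup G) * Nat.card A₀ := by
    rw [hN]
    refine CfsgLib.Solvable.card_sup_of_disjoint hA₀N (disjoint_iff.2 ?_)
    exact eq_bot_of_isPGroup_of_coprime (P.isPGroup'.to_le inf_le_left)
      (hA₀.coprime_dvd_left (card_dvd_of_le inf_le_right))
  calc _ ≤ N.index * Nat.card (P : Subgroup G) * Nat.card A₀ := Nat.mul_le_mul_right _ h1
    _ = _ := by rw [mul_assoc, ← hcard, mul_comm, card_mul_index]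

omit [Finite G] hp in
theorem three_mul_card_lt {p : ℕ} (h5 : 5 ≤ p) (S : Finset ℕ) (hS : ∀ r ∈ S, r.Prime)
    (hd : ∀ r ∈ S, r ∣ p - 1) : 3 * S.card < p := by
  rcases Nat.lt_or_ge S.card 2 with h | h
  · omega
  have hprod : (∏ r ∈ S, r) ∣ p - 1 :=
    Finset.prod_primes_dvd _ (fun r hr => Nat.prime_iff.1 (hS r hr)) hd
  have hle := Nat.le_of_dvd (by omega) hprod
  have h3 : ∀ T : Finset ℕ, (∀ r ∈ T, r.Prime) → 2 ∉ T → 3 ^ T.card ≤ ∏ r ∈ T, r := by
    intro T hT h2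
    rw [← Finset.prod_const]
    refine Finset.prod_le_prod' fun r hr => ?_
    have := (hT r hr).two_le
    have : r ≠ 2 := fun e => h2 (e ▸ hr)
    omega
  have hb : 2 * 3 ^ (S.card - 1) ≤ ∏ r ∈ S, r := by
    by_cases h2 : 2 ∈ S
    · rw [← Finset.mul_prod_erase S _ h2, ← Finset.card_erase_of_mem h2]
      exact Nat.mul_le_mul_left 2 (h3 _ (fun r hr => hS r (Finset.mem_of_mem_erase hr))
        (Finset.notMem_erase 2 S))
    · refine le_trans ?_ (h3 S hS h2)
      obtain ⟨n, hn⟩ : ∃ n, S.card = n + 1 := ⟨S.card - 1, by omega⟩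
      rw [hn, Nat.add_sub_cancel, pow_succ, mul_comm (3 ^ n)]
      exact Nat.mul_le_mul_right _ (by norm_num)
  have hn : ∀ n : ℕ, 1 ≤ n → 3 * (n + 1) ≤ 2 * 3 ^ n := by
    intro n hn
    induction n, hn using Nat.le_induction with
    | base => norm_num
    | succ n hn ih => rw [pow_succ]; omega
  have := hn (S.card - 1) (by omega)
  rw [show S.card - 1 + 1 = S.card by omega] at this
  omega

theorem not_cfg (c : Cfg p G) : False := by
  classical
  have : Fintype G := Fintype.ofFinite G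
  have h5 := c.five
  set P : Sylow p G := default
  obtain ⟨-, A₀, hA₀, hA₀1, hA₀N, hN⟩ := exists_complement c P
  set S := (Nat.card G).primeFactors.erase p with hSdef
  have hSp : ∀ r ∈ S, r.Prime ∧ r ∣ Nat.card G ∧ r ≠ p := fun r hr =>
    ⟨(Nat.mem_primeFactors.1 (Finset.mem_of_mem_erase hr)).1,
      (Nat.mem_primeFactors.1 (Finset.mem_of_mem_erase hr)).2.1, Finset.ne_of_mem_erase hr⟩
  have hdata : ∀ r : S, ∃ A M : Subgroup G, IsClass p A M ∧ (r : ℕ) ∣ Nat.card A ∧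
      IsClass.Adapted A M (P : Subgroup G) := by
    rintro ⟨r, hr⟩
    obtain ⟨hr1, hr2, hr3⟩ := hSp r hr
    haveI : Fact r.Prime := ⟨hr1⟩
    set R : Sylow r G := default
    obtain ⟨A, M, hM, hRA⟩ := exists_class_ge c (sylow_coprime hr3 R) (R.ne_bot_of_dvd_card hr2)
    obtain ⟨P', hP'⟩ := hM.exists_adapted_any c
    obtain ⟨g, hg⟩ := MulAction.exists_smul_eq G P' P
    refine ⟨MulAut.conj g • A, MulAut.conj g • M, hM.conj g, ?_, ?_⟩
    · rw [CfsgLib.Solvable.card_conj_smul]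
      exact (R.dvd_card_of_dvd_card hr2).trans (card_dvd_of_le hRA)
    · show MulAut.conj g • A ⊔ ((P : Subgroup G) ⊓ MulAut.conj g • M) = MulAut.conj g • M
      conv_rhs => rw [← show A ⊔ ((P' : Subgroup G) ⊓ M) = M from hP', Subgroup.smul_sup,
        Subgroup.smul_inf, ← Sylow.coe_subgroup_smul, hg]
  choose As Ms hMs hrA hadapt using hdata
  set I := Finset.filter (fun r : S => (r : ℕ) = (Nat.card (As r)).minFac) Finset.univ with hI
  set P₁ : S → Subgroup G := fun i => (P : Subgroup G) ⊓ Ms i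
  set F : S → ℕ := fun i => (fixedSet (As i) (P₁ i)).ncard
  set X : S → ℕ := fun i => (IsClass.cover p (Ms i)).ncard
  set n := Nat.card G
  have hn0 : 0 < n := Nat.card_pos
  -- covering
  have hcover : (nonP p G) ⊆ ⋃ i ∈ I, IsClass.cover p (Ms i) := by
    intro x hx
    obtain ⟨e, he, he1⟩ := exists_pprime_part hx
    obtain ⟨r, e', hr, hrd, hr'⟩ := exists_pow_prime he1
    haveI : Fact r.Prime := ⟨hr⟩
    have hrp : r ≠ p := fun h => hr.ne_one (Nat.eq_one_of_dvd_coprimes he hrd (h ▸ dvd_rfl))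
    have hrS : r ∈ S := Finset.mem_erase.2 ⟨hrp, Nat.mem_primeFactors.2
      ⟨hr, hrd.trans (orderOf_dvd_natCard _), hn0.ne'⟩⟩
    set j := (Nat.card (As ⟨r, hrS⟩)).minFac
    have hj : j.Prime := Nat.minFac_prime fun h => (hMs ⟨r, hrS⟩).ne_bot (card_eq_one.1 h)
    haveI : Fact j.Prime := ⟨hj⟩
    have hjd : j ∣ Nat.card (As ⟨r, hrS⟩) := Nat.minFac_dvd _
    have hjS : j ∈ S := Finset.mem_erase.2 ⟨fun h => hj.ne_one
      (Nat.eq_one_of_dvd_coprimes (hMs ⟨r, hrS⟩).max.1 hjd (h ▸ dvd_rfl)),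
      Nat.mem_primeFactors.2 ⟨hj, hjd.trans (card_subgroup_dvd_card _), hn0.ne'⟩⟩
    have hcc : Nat.card (As ⟨j, hjS⟩) = Nat.card (As ⟨r, hrS⟩) :=
      IsClass.card_eq_of_common c (hMs _) (hMs _) (hrA ⟨j, hjS⟩) hjd
    refine Set.mem_iUnion₂.2 ⟨⟨j, hjS⟩, Finset.mem_filter.2 ⟨Finset.mem_univ _, ?_⟩, hx, ?_⟩
    · show j = _
      rw [hcc]
    · set w := (x ^ e) ^ e'
      have hrj : r ∣ Nat.card (As ⟨j, hjS⟩) := by rw [hcc]; exact hrA ⟨r, hrS⟩
      obtain ⟨-, R, hR⟩ := exists_class_sylow c (hMs ⟨j, hjS⟩).max hrj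
      obtain ⟨R', hR'⟩ := (IsPGroup.of_card (n := 1) (p := r)
        (by rw [Nat.card_zpowers, pow_one, hr'] : Nat.card (zpowers w) = r ^ 1)).exists_le_sylow
      obtain ⟨g, hg⟩ := MulAction.exists_smul_eq G R' R
      have hwA : g * w * g⁻¹ ∈ As ⟨j, hjS⟩ := by
        refine hR ?_
        rw [← hg, Sylow.coe_subgroup_smul, CfsgLib.Solvable.mem_conj_smul]
        simpa [mul_assoc] using hR' (mem_zpowers w)
      have how : orderOf (g * w * g⁻¹) = r := ((MulAut.conj g).orderOf_eq w).trans hr'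
      refine ⟨g, (hMs ⟨j, hjS⟩).centralizer_le c ((hMs _).le hwA)
        (coprime_of_mem (hMs _).max.1 hwA) (fun h => hr.ne_one (by rw [← how, h, orderOf_one])) ?_⟩
      refine mem_centralizer_singleton_iff.2 ((Commute.conj_iff (h := g)).2 ?_).eq
      exact ((Commute.refl x).pow_right e).pow_right e'
  have htot : n ≤ {x : G | ∃ k, orderOf x = p ^ k}.ncard + ∑ i ∈ I, X i := by
    calc n = (Set.univ : Set G).ncard := (Set.ncard_univ G).symm
      _ ≤ ({x : G | ∃ k, orderOf x = p ^ k} ∪ ⋃ i ∈ I, IsClass.cover p (Ms i)).ncard :=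
        Set.ncard_le_ncard fun x _ => (em (∃ k, orderOf x = p ^ k)).imp id fun h => hcover h
      _ ≤ {x : G | ∃ k, orderOf x = p ^ k}.ncard + (⋃ i ∈ I, IsClass.cover p (Ms i)).ncard :=
        Set.ncard_union_le _ _
      _ ≤ _ := Nat.add_le_add_left (Finset.set_ncard_biUnion_le I _) _
  have hpel := card_pElements_le c P hA₀ hA₀N hN
  set k := Nat.card A₀
  set e := {x : G | ∃ k, orderOf x = p ^ k}.ncard
  have hk2 : 2 ≤ k := (one_lt_card_iff_ne_bot A₀).2 hA₀1
  -- individual bounds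
  have hX : ∀ i, X i * Nat.card (P₁ i) ≤ n * (F i + 1) := fun i =>
    (hMs i).card_cover_le c P (hadapt i)
  set I₁ := I.filter fun i => (P : Subgroup G) ≤ Ms i
  set I₂ := I.filter fun i => ¬ (P : Subgroup G) ≤ Ms i
  have hI₂ : ∀ i ∈ I₂, p * X i ≤ n := by
    intro i hi
    have h1 := (hMs i).mul_fixedSet_le c P (hadapt i) (Finset.mem_filter.1 hi).2
    refine Nat.le_of_mul_le_mul_right ?_ (Nat.card_pos (α := P₁ i))
    calc p * X i * Nat.card (P₁ i) = p * (X i * Nat.card (P₁ i)) := mul_assoc _ _ _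
      _ ≤ p * (n * (F i + 1)) := Nat.mul_le_mul_left p (hX i)
      _ = n * (p * (F i + 1)) := by ring
      _ ≤ n * Nat.card (P₁ i) := Nat.mul_le_mul_left n h1
  set q := Nat.card (P : Subgroup G)
  have hI₁ : ∀ i ∈ I₁, X i * q ≤ n * (F i + 1) := by
    intro i hi
    have := hX i
    rwa [show P₁ i = (P : Subgroup G) from inf_eq_left.2 (Finset.mem_filter.1 hi).2] at this
  have hqp : p ≤ q := by
    obtain ⟨m, hm⟩ := P.isPGroup'.exists_card_eq
    rw [show q = p ^ m from hm]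
    refine Nat.le_self_pow (fun h0 => sylow_ne_bot c P ?_) p
    rw [h0, pow_zero] at hm
    exact card_eq_one.1 hm
  have hinj : ∀ i ∈ I₁, ∀ j ∈ I₁, ∀ y ∈ fixedSet (As i) (P₁ i), ∀ y' ∈ fixedSet (As j) (P₁ j),
      ∀ t ∈ A₀, t * y * t⁻¹ = y' → i = j ∧ t = 1 := by
    intro i hi j hj y hy y' hy' t ht he
    obtain ⟨hyP, hy1, a, ha, ha1, hay⟩ := hy
    obtain ⟨hy'P, -, a', ha', ha'1, hay'⟩ := hy'
    obtain ⟨l, hl⟩ := orderOf_eq_pow_of_mem P.isPGroup' (mem_inf.1 hyP).1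
    have h1 := (hMs i).conj_fixed c (hMs j) hy1 hl (g := t) (he ▸ (mem_inf.1 hy'P).2) ha ha1 hay
      ha' ha'1 (he ▸ hay')
    have hij : i = j := by
      obtain ⟨r, n', hr, hrd, -⟩ := exists_pow_prime ha1
      haveI : Fact r.Prime := ⟨hr⟩
      have hcc := IsClass.card_eq_of_common c (hMs i) (hMs j) (r := r)
        (hrd.trans (orderOf_mk a ha ▸ orderOf_dvd_natCard _))
        (hrd.trans (((MulAut.conj t).orderOf_eq a).symm.dvd.trans
          (orderOf_mk _ h1 ▸ orderOf_dvd_natCard _)))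
      refine Subtype.ext ?_
      rw [(Finset.mem_filter.1 (Finset.mem_filter.1 hi).1).2,
        (Finset.mem_filter.1 (Finset.mem_filter.1 hj).1).2, hcc]
    subst hij
    exact ⟨rfl, (hMs i).complement_inf_eq_bot c P (Finset.mem_filter.1 hi).2 hA₀ hN ht
      ((hMs i).mem_of_conj c ((hMs i).le ha) ((hMs i).le h1) (coprime_of_mem (hMs i).max.1 ha) ha1)⟩
  have hPn : ∀ t ∈ A₀, ∀ y ∈ (P : Subgroup G), t * y * t⁻¹ ∈ (P : Subgroup G) :=
    fun t ht y hy => (mem_normalizer_iff.1 (hA₀N ht) y).1 hy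
  have hsum : k * ∑ i ∈ I₁, F i ≤ q := by
    set s := I₁.sigma fun i => (fixedSet (As i) (P₁ i)).toFinset ×ˢ (A₀ : Set G).toFinset
    have hcard : s.card = ∑ i ∈ I₁, F i * k := by
      rw [Finset.card_sigma]
      refine Finset.sum_congr rfl fun i _ => ?_
      rw [Finset.card_product, ← Set.ncard_eq_toFinset_card', ← Set.ncard_eq_toFinset_card']
      rfl
    rw [Finset.mul_sum]
    calc ∑ i ∈ I₁, k * F i = s.card := by rw [hcard]; simp [mul_comm]
      _ ≤ ((P : Subgroup G) : Set G).toFinset.card := by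
        refine Finset.card_le_card_of_injOn (fun z => z.2.2 * z.2.1 * z.2.2⁻¹) (fun z hz => ?_) ?_
        · simp only [s, Finset.mem_coe, Finset.mem_sigma, Finset.mem_product, Set.mem_toFinset] at hz ⊢
          exact hPn _ hz.2.2 _ (mem_inf.1 hz.2.1.1).1
        · rintro ⟨i, y, t⟩ hz ⟨j, y', t'⟩ hz' he
          simp only [s, Finset.mem_coe, Finset.mem_sigma, Finset.mem_product, Set.mem_toFinset] at hz hz'
          simp only at he
          have he' : (t'⁻¹ * t) * y * (t'⁻¹ * t)⁻¹ = y' := by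
            have := congrArg (fun v => t'⁻¹ * v * t') he
            simpa [mul_assoc] using this
          obtain ⟨rfl, ht⟩ := hinj i hz.1 j hz'.1 y hz.2.1 y' hz'.2.1 _
            (A₀.mul_mem (A₀.inv_mem hz'.2.2) hz.2.2) he'
          rw [inv_mul_eq_one] at ht
          subst ht
          simp only [inv_mul_cancel, one_mul, inv_one, mul_one] at he'
          subst he'
          rfl
      _ = q := by rw [← Set.ncard_eq_toFinset_card']; rfl
  have hs : 3 * I.card < p := by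
    refine lt_of_le_of_lt (Nat.mul_le_mul_left 3 ((Finset.card_le_univ I).trans ?_))
      (three_mul_card_lt h5 S (fun r hr => (hSp r hr).1) fun r hr => by
        haveI : Fact r.Prime := ⟨(hSp r hr).1⟩
        exact c.hyp.prime_dvd_sub_one (hSp r hr).2.1 (hSp r hr).2.2)
    rw [Fintype.card_coe]
  have hIc : I₁.card + I₂.card = I.card := Finset.card_filter_add_card_filter_not _
  have hsplit : ∑ i ∈ I₁, X i + ∑ i ∈ I₂, X i = ∑ i ∈ I, X i := Finset.sum_filter_add_sum_filter_not _ _ _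
  have hII : p * ∑ i ∈ I₂, X i ≤ I₂.card * n := by
    rw [Finset.mul_sum]
    exact (Finset.sum_le_sum hI₂).trans (le_of_eq (by rw [Finset.sum_const, smul_eq_mul]))
  rcases eq_or_lt_of_le hk2 with hk | hk
  · -- `|A₀| = 2`: then `A₀` inverts `P`
    obtain ⟨t, ht, ht1⟩ := (bot_or_exists_ne_one A₀).resolve_left hA₀1
    have htt : t * t = 1 := by
      have h1 := pow_card_eq_one' (x := (⟨t, ht⟩ : A₀))
      rw [show Nat.card A₀ = 2 from hk.symm, sq] at h1
      exact congrArg Subtype.val h1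
    have htinv : t⁻¹ = t := inv_eq_of_mul_eq_one_right htt
    have hinvP : ∀ y ∈ (P : Subgroup G), t * y * t⁻¹ = y⁻¹ := by
      have hbij : Function.Bijective (fun y : (P : Subgroup G) =>
          (⟨(y : G)⁻¹ * (t * y * t⁻¹), mul_mem (inv_mem y.2) (hPn t ht _ y.2)⟩ : (P : Subgroup G))) := by
        refine Finite.injective_iff_bijective.1 fun y₁ y₂ h => ?_
        have h1 : (y₁ : G)⁻¹ * (t * y₁ * t⁻¹) = (y₂ : G)⁻¹ * (t * y₂ * t⁻¹) := congrArg Subtype.val h
        have h2 : Commute t ((y₂ : G) * (y₁ : G)⁻¹) := by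
          have h3 : (y₂ : G) * (y₁ : G)⁻¹ * (t * y₁ * t⁻¹) = t * y₂ * t⁻¹ := by
            rw [mul_assoc, h1]; simp
          show t * ((y₂ : G) * (y₁ : G)⁻¹) = (y₂ : G) * (y₁ : G)⁻¹ * t
          calc t * ((y₂ : G) * (y₁ : G)⁻¹) = (t * y₂ * t⁻¹) * (t * (y₁ : G)⁻¹) := by simp [mul_assoc]
            _ = (y₂ : G) * (y₁ : G)⁻¹ * (t * y₁ * t⁻¹) * (t * (y₁ : G)⁻¹) := by rw [h3]
            _ = _ := by simp [mul_assoc]
        have h4 := eq_one_of_commute_complement c P hA₀ hA₀N hN ht ht1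
          (mul_mem y₂.2 (inv_mem y₁.2)) h2
        exact Subtype.ext (mul_inv_eq_one.1 h4).symm
      intro y hy
      obtain ⟨z, hz⟩ := hbij.2 ⟨y, hy⟩
      rw [← show ((z : G))⁻¹ * (t * z * t⁻¹) = y from congrArg Subtype.val hz]
      simp only [mul_inv_rev, inv_inv, htinv, mul_assoc]
      rw [htt, mul_one]
    have hF0 : ∀ i ∈ I₁, F i = 0 := by
      intro i hi
      refine (Set.ncard_eq_zero).2 (Set.eq_empty_iff_forall_notMem.2 fun y hy => ?_)
      have hy' : y⁻¹ ∈ fixedSet (As i) (P₁ i) := by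
        obtain ⟨h1, h2, a, ha, ha1, hay⟩ := hy
        exact ⟨inv_mem h1, by simpa using h2, a, ha, ha1, hay.inv_right⟩
      exact ht1 (hinj i hi i hi y hy _ hy' t ht (hinvP y (mem_inf.1 hy.1).1)).2
    have hI : p * ∑ i ∈ I₁, X i ≤ I₁.card * n := by
      rw [Finset.mul_sum]
      refine (Finset.sum_le_sum fun i hi => ?_).trans (le_of_eq (by rw [Finset.sum_const, smul_eq_mul]))
      have h1 := hI₁ i hi
      rw [hF0 i hi, zero_add, mul_one] at h1
      rw [mul_comm p]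
      exact (Nat.mul_le_mul_left _ hqp).trans h1
    have h2e : 2 * e ≤ n := by rw [mul_comm, hk]; exact hpel
    have h1 : p * n ≤ p * e + (p * ∑ i ∈ I₁, X i + p * ∑ i ∈ I₂, X i) := by
      rw [← mul_add, hsplit, ← mul_add]
      exact Nat.mul_le_mul_left p htot
    nlinarith [Nat.mul_le_mul_left p h2e]
  · -- `|A₀| ≥ 3`
    have hI : 3 * p * ∑ i ∈ I₁, X i ≤ n * (p + 3 * I₁.card) := by
      refine Nat.le_of_mul_le_mul_right ?_ (lt_of_lt_of_le hp.out.pos hqp)
      calc 3 * p * (∑ i ∈ I₁, X i) * q = 3 * p * ∑ i ∈ I₁, X i * q := by rw [mul_assoc, Finset.sum_mul]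
        _ ≤ 3 * p * ∑ i ∈ I₁, n * (F i + 1) := Nat.mul_le_mul_left _ (Finset.sum_le_sum hI₁)
        _ = n * (p * (3 * ∑ i ∈ I₁, F i) + 3 * I₁.card * p) := by
          rw [← Finset.mul_sum, Finset.sum_add_distrib, Finset.sum_const, smul_eq_mul, mul_one]
          ring
        _ ≤ n * (p * q + 3 * I₁.card * q) := Nat.mul_le_mul_left _ (Nat.add_le_add
          (Nat.mul_le_mul_left p ((Nat.mul_le_mul_right _ hk).trans hsum)) (Nat.mul_le_mul_left _ hqp))
        _ = _ := by ring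
    have h3e : 3 * e ≤ n := (Nat.mul_le_mul_right e hk).trans (by rw [mul_comm]; exact hpel)
    have h1 : 3 * p * n ≤ p * (3 * e) + (3 * p * ∑ i ∈ I₁, X i + 3 * (p * ∑ i ∈ I₂, X i)) := by
      refine (Nat.mul_le_mul_left (3 * p) htot).trans (le_of_eq ?_)
      rw [← hsplit]
      ring
    nlinarith [Nat.mul_le_mul_left p h3e]

end CfsgLib.PPrimeAbelian
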