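import Cfsg.Agent.Lib.PPrimeAbelian.Normal

/-!
# Fixed points of `p`-elements in `A`

`N_G(P) = P ⋊ A₀` is a Frobenius group, and a `p`-element of `M` with a fixed point in `A` has its
centralizer in `M`.
-/

set_option autoImplicit false
set_option linter.style.haveILetI false
set_option maxHeartbeats 400000

namespace CfsgLib.PPrimeAbelian

open Subgroup
open CfsgLib.ZJCenter (zj)
open scoped Pointwise

universe u

variable {p : ℕ} {G : Type u} [Group G] [Finite G] [hp : Fact p.Prime]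

/-- If a Sylow `p`-subgroup of `G` lies in `H'`, then `H = O_p(H) A`. -/
theorem le_core_sup_of_commutator (hyp : Hyp p G) {H A : Subgroup G} [Group.IsSolvable H]
    (hall : HallIn p A H) (P : Sylow p G) (hP : (P : Subgroup G) ≤ H)
    (hc : (P : Subgroup G) ≤ ⁅H, H⁆) : H ≤ Cfsg.pCoreOf p H ⊔ A := by
  set N := Cfsg.pCoreOf p H ⊔ A
  haveI hNn : (N.subgroupOf H).Normal :=
    normal_subgroupOf_of_le_normalizer (le_normalizer_core_sup hyp hall)
  have hX : IsPGroup p (H ⧸ N.subgroupOf H) := by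
    refine IsPGroup.of_card (n := _)
      (Nat.eq_prime_pow_of_unique_prime_dvd Nat.card_pos.ne' fun {q} hq hd => ?_)
    by_contra hne
    refine hall.2.2 q hq hne (hd.trans ?_)
    rw [← index_eq_card]
    exact index_dvd_of_le fun x hx => mem_subgroupOf.2 (mem_sup_right (mem_subgroupOf.1 hx))
  haveI := hX.isNilpotent
  set f := QuotientGroup.mk' (N.subgroupOf H)
  have hf : Function.Surjective f := QuotientGroup.mk'_surjective _
  set P' := (P.subtype hP).mapSurjective hf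
  have htop : (P' : Subgroup (H ⧸ N.subgroupOf H)) = ⊤ :=
    (P'.is_maximal' (hX.to_subgroup ⊤) le_top).symm
  have hPc : (P : Subgroup G).subgroupOf H ≤ commutator H := by
    intro x hx
    have h1 := hc hx
    rw [← H.map_subtype_commutator] at h1
    obtain ⟨w, hw, hwx⟩ := h1
    exact (Subtype.ext hwx : w = x) ▸ hw
  have hXc : commutator (H ⧸ N.subgroupOf H) = ⊤ := by
    rw [eq_top_iff, ← htop, Sylow.coe_mapSurjective, commutator_def, ← map_top_of_surjective f hf,
      ← Subgroup.map_commutator, ← commutator_def]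
    exact map_mono hPc
  have hsub : Subsingleton (H ⧸ N.subgroupOf H) := by
    by_contra hns
    rw [not_subsingleton_iff_nontrivial] at hns
    exact (Group.IsSolvable.commutator_lt_top_of_nontrivial _).ne hXc
  intro x hx
  have : f ⟨x, hx⟩ = 1 := Subsingleton.elim _ _
  exact mem_subgroupOf.1 ((QuotientGroup.eq_one_iff _).1 this)

theorem exists_complement (c : Cfg p G) (P : Sylow p G) :
    normalizer ((zj 0 (P : Subgroup G) : Subgroup G) : Set G) = normalizer ((P : Subgroup G) : Set G) ∧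
    ∃ A₀ : Subgroup G, (Nat.card A₀).Coprime p ∧ A₀ ≠ ⊥ ∧
      A₀ ≤ normalizer ((P : Subgroup G) : Set G) ∧
      normalizer ((P : Subgroup G) : Set G) = (P : Subgroup G) ⊔ A₀ := by
  set H := normalizer ((zj 0 (P : Subgroup G) : Subgroup G) : Set G)
  have hz1 : zj 0 (P : Subgroup G) ≠ ⊥ :=
    CfsgLib.ZJCenter.zj_ne_bot (Or.inl rfl) P.isPGroup' (sylow_ne_bot c P)
  have hH : H ≠ ⊤ := c.normalizer_ne_top hz1
    (c.ne_top_of_isPGroup (P.isPGroup'.to_le (CfsgLib.ZJCenter.zj_le 0 _)))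
  haveI := c.sol H hH
  have hPH : (P : Subgroup G) ≤ H :=
    le_normalizer.trans (CfsgLib.ZJCenter.normalizer_le_normalizer_zj 0 _)
  have hc : (P : Subgroup G) ≤ ⁅H, H⁆ :=
    (sylow_le_commutator c P).trans (Subgroup.commutator_mono hPH le_rfl)
  obtain ⟨A₀, hA₀, -⟩ := exists_hallIn_ge (p := p) (H := H) (U := ⊥) bot_le (by simp)
  have hle := le_core_sup_of_commutator c.hyp hA₀ P hPH hc
  set O := Cfsg.pCoreOf p H
  have hOA : A₀ ≤ normalizer (O : Set G) := hA₀.1.trans (le_normalizer_pCoreOf p H)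
  have hOP : O = (P : Subgroup G) := by
    obtain ⟨n, hn⟩ := (pCoreOf_isPGroup p H).exists_card_eq
    obtain ⟨m, hm⟩ := P.isPGroup'.exists_card_eq
    have h1 : O ≤ (P : Subgroup G) := by
      have hd := CfsgLib.Solvable.card_sup_dvd (N := O) (H := (P : Subgroup G))
        (hPH.trans (le_normalizer_pCoreOf p H))
      rw [show Nat.card O = p ^ n from hn, show Nat.card (P : Subgroup G) = p ^ m from hm,
        ← pow_add] at hd
      obtain ⟨j, -, hj⟩ := (Nat.dvd_prime_pow hp.out).1 hd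
      exact (P.is_maximal' (IsPGroup.of_card hj) le_sup_right).le.trans' le_sup_left
    refine eq_of_le_of_card_ge h1 (Nat.le_of_dvd Nat.card_pos ?_)
    have h2 : Nat.card (P : Subgroup G) ∣ Nat.card O * Nat.card A₀ :=
      (card_dvd_of_le (hPH.trans hle)).trans (CfsgLib.Solvable.card_sup_dvd hOA)
    refine Nat.Coprime.dvd_of_dvd_mul_right ?_ h2
    rw [show Nat.card (P : Subgroup G) = p ^ m from hm]
    exact hA₀.coprime.symm.pow_left m
  have hHP : H ≤ normalizer ((P : Subgroup G) : Set G) := hOP ▸ le_normalizer_pCoreOf p H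
  have heq : H = normalizer ((P : Subgroup G) : Set G) :=
    le_antisymm hHP (CfsgLib.ZJCenter.normalizer_le_normalizer_zj 0 _)
  refine ⟨heq, A₀, hA₀.coprime, ?_, hA₀.1.trans hHP, ?_⟩
  · intro h0
    rw [h0, sup_bot_eq, hOP] at hle
    have hPc : (P : Subgroup G) ≤ ⁅(P : Subgroup G), (P : Subgroup G)⁆ :=
      hc.trans (Subgroup.commutator_mono hle hle)
    haveI := P.isPGroup'.isNilpotent
    haveI : Nontrivial (P : Subgroup G) := (nontrivial_iff_ne_bot _).2 (sylow_ne_bot c P)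
    refine (Group.IsSolvable.commutator_lt_top_of_nontrivial (P : Subgroup G)).ne (eq_top_iff.2 ?_)
    intro x _
    have h1 := hPc x.2
    rw [← (P : Subgroup G).map_subtype_commutator] at h1
    obtain ⟨w, hw, hwx⟩ := h1
    exact (Subtype.ext hwx : w = x) ▸ hw
  · refine le_antisymm ?_ (sup_le le_normalizer (hA₀.1.trans hHP))
    calc normalizer ((P : Subgroup G) : Set G) = H := heq.symm
      _ ≤ O ⊔ A₀ := hle
      _ = _ := by rw [hOP]

namespace IsClass

variable {A M : Subgroup G}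

theorem mem_of_coprime (hM : IsClass p A M) (c : Cfg p G) {x : G} (hx : x ∈ M)
    (hxc : (orderOf x).Coprime p) : x ∈ A := by
  obtain ⟨m, hm, hle⟩ := hM.exists_conj_le c (zpowers_le.2 hx) (by rwa [Nat.card_zpowers])
  have h1 : m * x * m⁻¹ ∈ A := CfsgLib.Solvable.conj_smul_le_iff.1 hle x (mem_zpowers x)
  exact (mem_normalizer_iff.1 (hM.le_normalizer c hm) x).2 h1

theorem not_le_normalizer_sylow (hM : IsClass p A M) (c : Cfg p G) (P : Sylow p G)
    (hP : (P : Subgroup G) ≤ M) : ¬ normalizer ((P : Subgroup G) : Set G) ≤ M :=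
  (exists_complement c P).1 ▸ hM.not_normalizer_zj_le c P hP

/-- If `P ≤ M` then a complement of `P` in `N(P)` meets `M` trivially. -/
theorem complement_inf_eq_bot (hM : IsClass p A M) (c : Cfg p G) (P : Sylow p G)
    (hP : (P : Subgroup G) ≤ M) {A₀ : Subgroup G} (hA₀ : (Nat.card A₀).Coprime p)
    (hN : normalizer ((P : Subgroup G) : Set G) = (P : Subgroup G) ⊔ A₀) {a : G} (ha : a ∈ A₀)
    (haM : a ∈ M) : a = 1 := by
  by_contra ha1
  haveI := (c.hyp A₀ hA₀).1
  refine hM.not_le_normalizer_sylow c P hP (hN.le.trans (sup_le hP fun x hx => ?_))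
  exact hM.centralizer_le c haM (coprime_of_mem hA₀ ha) ha1
    (mem_centralizer_singleton_iff.2 (setLike_mul_comm hx ha))

/-- `P` is adapted to the class if `P ∩ M` is a complement of `A` in `M`. -/
def Adapted (A M : Subgroup G) (P : Subgroup G) : Prop :=
  A ⊔ (P ⊓ M) = M

theorem card_eq_of_adapted (hM : IsClass p A M) (c : Cfg p G) (P : Sylow p G)
    (hP : Adapted A M (P : Subgroup G)) :
    Nat.card M = Nat.card A * Nat.card ((P : Subgroup G) ⊓ M : Subgroup G) := by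
  have hdis : Disjoint A ((P : Subgroup G) ⊓ M) := disjoint_iff.2
    (eq_bot_of_isPGroup_of_coprime (P.isPGroup'.to_le (inf_le_right.trans inf_le_left))
      (hM.max.1.coprime_dvd_left (card_dvd_of_le inf_le_left)))
  conv_lhs => rw [← show A ⊔ ((P : Subgroup G) ⊓ M) = M from hP]
  exact CfsgLib.Solvable.card_sup_of_disjoint
    (inf_le_right.trans (hM.le_normalizer c)) hdis

theorem exists_adapted (hM : IsClass p A M) (c : Cfg p G) {x : G} (hx : x ∈ M) {k : ℕ}
    (hk : orderOf x = p ^ k) : ∃ P : Sylow p G, x ∈ (P : Subgroup G) ∧ Adapted A M (P : Subgroup G) := by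
  obtain ⟨T, hT⟩ := ((isPGroup_zpowers hk).comap_of_injective M.subtype
    M.subtype_injective).exists_le_sylow
  obtain ⟨P, hP⟩ := (T.isPGroup'.map M.subtype).exists_le_sylow
  have hxT : (⟨x, hx⟩ : M) ∈ (T : Subgroup M) := hT (mem_zpowers x)
  refine ⟨P, hP ⟨_, hxT, rfl⟩, ?_⟩
  set P₁ := (P : Subgroup G) ⊓ M
  have hle : A ⊔ P₁ ≤ M := sup_le hM.le inf_le_right
  refine eq_of_le_of_card_ge hle ?_
  have hall := hM.hallIn c
  have hdis : Disjoint A P₁ := disjoint_iff.2
    (eq_bot_of_isPGroup_of_coprime (P.isPGroup'.to_le (inf_le_right.trans inf_le_left))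
      (hM.max.1.coprime_dvd_left (card_dvd_of_le inf_le_left)))
  rw [CfsgLib.Solvable.card_sup_of_disjoint (inf_le_right.trans (hM.le_normalizer c)) hdis]
  obtain ⟨m, hm⟩ : ∃ m, (A.subgroupOf M).index = p ^ m :=
    ⟨_, Nat.eq_prime_pow_of_unique_prime_dvd index_ne_zero_of_finite fun {q} hq hd => by
      by_contra hne
      exact hall.2.2 q hq hne hd⟩
  have hMc : Nat.card M = Nat.card A * p ^ m := by
    rw [← hm, ← card_mul_index (A.subgroupOf M), Nat.card_congr (subgroupOfEquivOfLe hM.le).toEquiv]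
  rw [hMc]
  refine Nat.mul_le_mul_left _ (Nat.le_of_dvd Nat.card_pos ?_)
  refine (T.pow_dvd_card_of_pow_dvd_card (hMc ▸ dvd_mul_left _ _)).trans ?_
  rw [← card_map_of_injective M.subtype_injective]
  exact card_dvd_of_le (le_inf hP (map_subtype_le _))

theorem exists_adapted_any (hM : IsClass p A M) (c : Cfg p G) :
    ∃ P : Sylow p G, Adapted A M (P : Subgroup G) := by
  obtain ⟨P, -, h⟩ := hM.exists_adapted c M.one_mem (k := 0) (by simp)
  exact ⟨P, h⟩

/-- No element of prime order of `A` is centralized by `P ∩ M`. -/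
theorem eq_one_of_fixed (hM : IsClass p A M) (c : Cfg p G) (P : Sylow p G)
    (hP : Adapted A M (P : Subgroup G)) {r : ℕ} [Fact r.Prime] {a : G} (ha : a ∈ A)
    (har : orderOf a = r) (hfix : ∀ q ∈ (P : Subgroup G) ⊓ M, Commute q a) : False := by
  haveI := (c.hyp A hM.max.1).1
  have hrA : r ∣ Nat.card A := har ▸ (orderOf_mk a ha ▸ orderOf_dvd_natCard _)
  have hrG : r ∣ Nat.card G := hrA.trans (card_subgroup_dvd_card A)
  have hrp : r ≠ p := fun h => (Fact.out : r.Prime).ne_one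
    (Nat.eq_one_of_dvd_coprimes hM.max.1 hrA (h ▸ dvd_rfl))
  obtain ⟨-, R, hRA⟩ := exists_class_sylow c hM.max hrA
  have haR : a ∈ (R : Subgroup G) := mem_sylow_of_mem hRA ha (k := 1) (by rw [pow_one, har])
  have hN : normalizer ((R : Subgroup G) : Set G) ≤ M := hM.normalizer_le c (hRA.trans hM.le)
    (sylow_coprime hrp R) (R.ne_bot_of_dvd_card hrG)
  have hMa : M ≤ centralizer ({a} : Set G) := by
    rw [← show A ⊔ ((P : Subgroup G) ⊓ M) = M from hP]
    exact sup_le (fun x hx => mem_centralizer_singleton_iff.2 (setLike_mul_comm hx ha))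
      fun q hq => mem_centralizer_singleton_iff.2 (hfix q hq).eq
  have h1 : a = 1 := CfsgLib.Transfer.abelian_sylow_centralPart_inf_commutator R
    (c.hyp _ (sylow_coprime hrp R)).1 haR
    (mem_centralizer_iff.2 fun g hg => mem_centralizer_singleton_iff.1 (hMa (hN hg)))
    (by rw [c.perfect]; exact mem_top a)
  rw [h1, orderOf_one] at har
  exact (Fact.out : r.Prime).one_lt.ne har

/-- The commuting criterion for `C(y) ≤ M`. -/
theorem centralizer_le_of_moved (hM : IsClass p A M) (c : Cfg p G) {y q a : G} (hy1 : y ≠ 1)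
    (hy : y ∈ M) (hq : q ∈ M) {k : ℕ} (hqk : orderOf q = p ^ k) (hqy : Commute q y) {r : ℕ}
    [Fact r.Prime] (ha : a ∈ A) (har : orderOf a = r) (hay : Commute a y)
    (hne : ¬ Commute q a) : centralizer ({y} : Set G) ≤ M := by
  haveI hAc := (c.hyp A hM.max.1).1
  set V := omega r A hAc ⊓ centralizer ({y} : Set G)
  have haV : a ∈ V := mem_inf.2
    ⟨⟨ha, by rw [← har]; exact pow_orderOf_eq_one a⟩, mem_centralizer_singleton_iff.2 hay.eq⟩
  have hVA : V ≤ A := inf_le_left.trans omega_le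
  have hVc : (Nat.card V).Coprime p := hM.max.1.coprime_dvd_left (card_dvd_of_le hVA)
  have hrA : r ∣ Nat.card A := har ▸ (orderOf_mk a ha ▸ orderOf_dvd_natCard _)
  have hrp : r ≠ p := fun h => (Fact.out : r.Prime).ne_one
    (Nat.eq_one_of_dvd_coprimes hM.max.1 hrA (h ▸ dvd_rfl))
  have hqV : q ∈ normalizer (V : Set G) := by
    refine inf_normalizer_le_normalizer_inf ⟨?_, Subgroup.le_normalizer (mem_centralizer_singleton_iff.2 hqy.eq)⟩
    show q ∈ normalizer ((omega r A hAc : Subgroup G) : Set G)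
    rw [mem_normalizer_iff]
    intro x
    simp only [mem_omega, conj_pow, conj_eq_one_iff]
    rw [mem_normalizer_iff.1 (hM.le_normalizer c hq) x]
  have h3 : r ^ 3 ≤ Nat.card V := cube_le_card c.five
    (c.hyp.prime_lt (hrA.trans (card_subgroup_dvd_card A)) hrp) (isPGroup_omega.to_le inf_le_left) hqk
    hqV ⟨a, haV, hne⟩
  have hcyc : ¬ IsCyclic V := by
    intro hV
    obtain ⟨g, hg⟩ := hV.exists_generator
    have h1 : Nat.card V ≤ r := by
      rw [← orderOf_eq_card_of_forall_mem_zpowers hg]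
      refine Nat.le_of_dvd (Fact.out : r.Prime).pos (orderOf_dvd_of_pow_eq_one (Subtype.ext ?_))
      exact (mem_inf.1 g.2).1.2
    have h2 : r < r ^ 3 := lt_self_pow₀ (Fact.out : r.Prime).one_lt (by norm_num)
    omega
  exact hM.le_of_noncyclic c (c.centralizer_ne_top hy1) inf_le_right (hVA.trans hM.le) hVc hcyc

/-- A fixed point of prime order. -/
theorem exists_prime_fixed {A : Subgroup G} {a y : G} (ha : a ∈ A) (ha1 : a ≠ 1) (hay : Commute a y) :
    ∃ r : ℕ, r.Prime ∧ ∃ b ∈ A, orderOf b = r ∧ Commute b y := by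
  obtain ⟨r, n, hr, -, hn⟩ := exists_pow_prime ha1
  exact ⟨r, hr, a ^ n, pow_mem ha n, hn, hay.pow_left n⟩

/-- A central element of `P ∩ M` with a fixed point has its centralizer in `M`. -/
theorem centralizer_le_of_central (hM : IsClass p A M) (c : Cfg p G) (P : Sylow p G)
    (hP : Adapted A M (P : Subgroup G)) {u a : G} (hu : u ∈ (P : Subgroup G) ⊓ M) (hu1 : u ≠ 1)
    (hcent : ∀ q ∈ (P : Subgroup G) ⊓ M, Commute q u) (ha : a ∈ A) (ha1 : a ≠ 1)
    (hau : Commute a u) : centralizer ({u} : Set G) ≤ M := by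
  obtain ⟨r, hr, b, hb, hbr, hbu⟩ := exists_prime_fixed ha ha1 hau
  haveI : Fact r.Prime := ⟨hr⟩
  obtain ⟨q, hq, hne⟩ : ∃ q ∈ (P : Subgroup G) ⊓ M, ¬ Commute q b := by
    by_contra hno
    push Not at hno
    exact hM.eq_one_of_fixed c P hP hb hbr hno
  obtain ⟨k, hk⟩ := orderOf_eq_pow_of_mem P.isPGroup' (mem_inf.1 hq).1
  exact hM.centralizer_le_of_moved c hu1 (mem_inf.1 hu).2 (mem_inf.1 hq).2 hk (hcent q hq) hb hbr
    hbu hne

omit hp in
theorem exists_ne_one_center [Fact p.Prime] {Q : Subgroup G} (hQ : IsPGroup p Q) (hQ1 : Q ≠ ⊥) :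
    ∃ z ∈ Q, z ≠ 1 ∧ ∀ q ∈ Q, Commute q z := by
  haveI : Nontrivial Q := (nontrivial_iff_ne_bot Q).2 hQ1
  haveI := hQ.center_nontrivial
  obtain ⟨⟨z, hz⟩, hz1⟩ := exists_ne (1 : center Q)
  refine ⟨z, z.2, fun h => hz1 (Subtype.ext (Subtype.ext h)), fun q hq => ?_⟩
  exact congrArg Subtype.val (mem_center_iff.1 hz ⟨q, hq⟩)

/-- A central element of `P ∩ M` without fixed points in `A`. -/
theorem exists_fpf (hM : IsClass p A M) (c : Cfg p G) (P : Sylow p G)
    (hP : Adapted A M (P : Subgroup G)) :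
    ∃ u ∈ (P : Subgroup G) ⊓ M, u ≠ 1 ∧ (∀ q ∈ (P : Subgroup G) ⊓ M, Commute q u) ∧
      ∀ a ∈ A, Commute a u → a = 1 := by
  set P₁ := (P : Subgroup G) ⊓ M
  have hP₁ : P₁ ≠ ⊥ := by
    intro h0
    obtain ⟨r, hr, hd⟩ := Nat.exists_prime_and_dvd (n := Nat.card A)
      (fun h => hM.ne_bot (card_eq_one.1 h))
    haveI : Fact r.Prime := ⟨hr⟩
    obtain ⟨a, ha⟩ := exists_prime_orderOf_dvd_card' (G := A) r hd
    refine hM.eq_one_of_fixed c P hP a.2 (r := r) (by rw [orderOf_coe, ha]) fun q hq => ?_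
    rw [show q = 1 by rw [← mem_bot, ← h0]; exact hq]
    exact Commute.one_left _
  by_contra hno
  push Not at hno
  have hfix : ∀ u ∈ P₁, u ≠ 1 → (∀ q ∈ P₁, Commute q u) → centralizer ({u} : Set G) ≤ M := by
    intro u hu hu1 hc
    obtain ⟨a, ha, hau, ha1⟩ := hno u hu hu1 hc
    exact hM.centralizer_le_of_central c P hP hu hu1 hc ha ha1 hau
  obtain ⟨u, hu, hu1, huc⟩ := exists_ne_one_center (P.isPGroup'.to_le inf_le_left) hP₁
  obtain ⟨z, hz, hz1, hzc⟩ := exists_ne_one_center P.isPGroup' (sylow_ne_bot c P)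
  have hzM : z ∈ M := hfix u hu hu1 huc
    (mem_centralizer_singleton_iff.2 (hzc u (mem_inf.1 hu).1).symm.eq)
  have hzc' : ∀ q ∈ P₁, Commute q z := fun q hq => hzc q (mem_inf.1 hq).1
  have hzC := hfix z (mem_inf.2 ⟨hz, hzM⟩) hz1 hzc'
  have hPM : (P : Subgroup G) ≤ M := fun q hq =>
    hzC (mem_centralizer_singleton_iff.2 (hzc q hq).eq)
  obtain ⟨-, A₀, hA₀, hA₀1, hA₀N, hN⟩ := exists_complement c P
  obtain ⟨t, ht, ht1⟩ := (bot_or_exists_ne_one A₀).resolve_left hA₀1
  have htn := mem_normalizer_iff.1 (hA₀N ht)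
  set z' := t * z * t⁻¹
  have hz'P : z' ∈ (P : Subgroup G) := (htn z).1 hz
  have hz'c : ∀ q ∈ P₁, Commute q z' := by
    intro q hq
    have h1 : t⁻¹ * q * t ∈ (P : Subgroup G) := by
      have := (mem_normalizer_iff.1 (inv_mem (hA₀N ht)) q).1 (mem_inf.1 hq).1
      simpa using this
    have h2 := (Commute.conj_iff (h := t)).2 (hzc _ h1)
    simpa [z', mul_assoc] using h2
  have hz'C := hfix z' (mem_inf.2 ⟨hz'P, hPM hz'P⟩) (by simpa [z'] using hz1) hz'c
  obtain ⟨b, hb, hbz, hb1⟩ := hno z (mem_inf.2 ⟨hz, hzM⟩) hz1 hzc'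
  have hb' : t * b * t⁻¹ ∈ M := hz'C
    (mem_centralizer_singleton_iff.2 ((Commute.conj_iff (h := t)).2 hbz).eq)
  exact ht1 (hM.complement_inf_eq_bot c P hPM hA₀ hN ht
    (hM.mem_of_conj c (hM.le hb) hb' (coprime_of_mem hM.max.1 hb) hb1))

/-- A nontrivial `p`-element of `M` fixing a nontrivial element of `A` has centralizer in `M`. -/
theorem centralizer_le_of_fixed (hM : IsClass p A M) (c : Cfg p G) {y a : G} (hy : y ∈ M)
    (hy1 : y ≠ 1) {k : ℕ} (hk : orderOf y = p ^ k) (ha : a ∈ A) (ha1 : a ≠ 1)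
    (hay : Commute a y) : centralizer ({y} : Set G) ≤ M := by
  obtain ⟨P, hyP, hP⟩ := hM.exists_adapted c hy hk
  obtain ⟨u, hu, -, huc, hfpf⟩ := hM.exists_fpf c P hP
  obtain ⟨r, hr, b, hb, hbr, hby⟩ := exists_prime_fixed ha ha1 hay
  haveI : Fact r.Prime := ⟨hr⟩
  obtain ⟨j, hj⟩ := orderOf_eq_pow_of_mem P.isPGroup' (mem_inf.1 hu).1
  refine hM.centralizer_le_of_moved c hy1 hy (mem_inf.1 hu).2 hj
    (huc y (mem_inf.2 ⟨hyP, hy⟩)).symm hb hbr hby fun h => ?_
  have := hfpf b hb h.symm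
  rw [this, orderOf_one] at hbr
  exact hr.one_lt.ne hbr

end IsClass

/-- `N(P) = P ⋊ A₀` is a Frobenius group. -/
theorem eq_one_of_commute_complement (c : Cfg p G) (P : Sylow p G) {A₀ : Subgroup G}
    (hA₀ : (Nat.card A₀).Coprime p) (hA₀N : A₀ ≤ normalizer ((P : Subgroup G) : Set G))
    (hN : normalizer ((P : Subgroup G) : Set G) = (P : Subgroup G) ⊔ A₀) {a : G} (ha : a ∈ A₀)
    (ha1 : a ≠ 1) {y : G} (hy : y ∈ (P : Subgroup G)) (hay : Commute a y) : y = 1 := by
  by_contra hy1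
  have hac := coprime_of_mem hA₀ ha
  obtain ⟨A, M, hM, haA⟩ := exists_class_ge c (U := zpowers a) (by rwa [Nat.card_zpowers])
    (by rwa [Ne, zpowers_eq_bot])
  have haA' : a ∈ A := haA (mem_zpowers a)
  have haM : a ∈ M := hM.le haA'
  obtain ⟨k, hk⟩ := orderOf_eq_pow_of_mem P.isPGroup' hy
  have hyM : y ∈ M := hM.centralizer_le c haM hac ha1 (mem_centralizer_singleton_iff.2 hay.symm.eq)
  have hyC := hM.centralizer_le_of_fixed c hyM hy1 hk haA' ha1 hay
  obtain ⟨z, hz, hz1, hzc⟩ := IsClass.exists_ne_one_center P.isPGroup' (sylow_ne_bot c P)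
  have hzM : z ∈ M := hyC (mem_centralizer_singleton_iff.2 (hzc y hy).symm.eq)
  have h1 : a * z * a⁻¹ * z⁻¹ ∈ A ⊓ (P : Subgroup G) := by
    refine mem_inf.2 ⟨?_, mul_mem ((mem_normalizer_iff.1 (hA₀N ha) z).1 hz) (inv_mem hz)⟩
    rw [show a * z * a⁻¹ * z⁻¹ = a * (z * a⁻¹ * z⁻¹) by simp [mul_assoc]]
    exact A.mul_mem haA' ((mem_normalizer_iff.1 (hM.le_normalizer c hzM) _).1 (A.inv_mem haA'))
  rw [show A ⊓ (P : Subgroup G) = ⊥ from eq_bot_of_isPGroup_of_coprime
    (P.isPGroup'.to_le inf_le_right) (hM.max.1.coprime_dvd_left (card_dvd_of_le inf_le_left)),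
    mem_bot, mul_inv_eq_one, mul_inv_eq_iff_eq_mul] at h1
  obtain ⟨l, hl⟩ := orderOf_eq_pow_of_mem P.isPGroup' hz
  have hzC := hM.centralizer_le_of_fixed c hzM hz1 hl haA' ha1 h1
  exact ha1 (hM.complement_inf_eq_bot c P
    (fun q hq => hzC (mem_centralizer_singleton_iff.2 (hzc q hq).eq)) hA₀ hN ha haM)

end CfsgLib.PPrimeAbelian
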