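import Cfsg.Agent.Lib.PPrimeAbelian.Basic
import Cfsg.Agent.Lib.Solvable.Hall
import Cfsg.Agent.Lib.Solvable.CoprimeGeneration

/-!
# The solvable subgroups

In a finite solvable group with abelian Hall `p'`-subgroup `A`, the subgroup `O_p A` is normal and
contains every `p`-subgroup normalized by `A`.
-/

set_option autoImplicit false
set_option linter.style.haveILetI false
set_option maxHeartbeats 200000

namespace CfsgLib.PPrimeAbelian

open Subgroup
open scoped Pointwise

variable {p : ℕ}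

/-- The set of primes different from `p`. -/
abbrev ppi (p : ℕ) : Set ℕ := {q | q ≠ p}

theorem forall_ppi_of_coprime [Fact p.Prime] {n : ℕ} (h : n.Coprime p) :
    ∀ q : ℕ, q.Prime → q ∣ n → q ∈ ppi p := fun q hq hd he => by
  subst he
  exact hq.ne_one (Nat.eq_one_of_dvd_coprimes h hd dvd_rfl)

theorem coprime_of_forall_ppi [hp : Fact p.Prime] {n : ℕ}
    (h : ∀ q : ℕ, q.Prime → q ∣ n → q ∈ ppi p) : n.Coprime p :=
  (hp.out.coprime_iff_not_dvd.2 fun hd => h p hp.out hd rfl).symm

section Solvable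

variable {X : Type*} [Group X] [Finite X] [Fact p.Prime]

theorem exists_hall_ge_coprime [Group.IsSolvable X] {U : Subgroup X} (hU : (Nat.card U).Coprime p) :
    ∃ A : Subgroup X, Cfsg.IsPiHall (ppi p) A ∧ U ≤ A :=
  CfsgLib.Solvable.exists_isPiHall_ge (forall_ppi_of_coprime hU)

/-- The structure of a solvable group with abelian Hall `p'`-subgroups. -/
theorem core_structure [Group.IsSolvable X] (hyp : Hyp p X) {A : Subgroup X}
    (hA : Cfsg.IsPiHall (ppi p) A) :
    (Cfsg.pCore p X ⊔ A).Normal ∧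
      ∀ U : Subgroup X, IsPGroup p U → A ≤ normalizer (U : Set X) → U ≤ Cfsg.pCore p X := by
  have hAc := coprime_of_forall_ppi hA.1
  haveI := (hyp A hAc).1
  set O := Cfsg.pCore p X with hO
  haveI : O.Normal := CfsgLib.Solvable.pCore_normal p X
  set f := QuotientGroup.mk' O with hf
  have hsurj : Function.Surjective f := QuotientGroup.mk'_surjective O
  haveI : Group.IsSolvable (X ⧸ O) := Group.isSolvable_of_surjective hsurj
  set Ab := A.map f with hAb
  haveI : IsMulCommutative Ab := Subgroup.map_isMulCommutative A (f := f)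
  have hAbc : (Nat.card Ab).Coprime p := hAc.coprime_dvd_left (card_map_dvd A f)
  have hAbH : Cfsg.IsPiHall (ppi p) Ab :=
    ⟨forall_ppi_of_coprime hAbc, fun q hq hqp hd =>
      hA.2 q hq hqp (hd.trans (index_map_dvd A hsurj))⟩
  set K := Cfsg.pPrimeCore p (X ⧸ O) with hK
  haveI hKn : K.Normal := CfsgLib.Solvable.pPrimeCore_normal p (X ⧸ O)
  have hKA : K ≤ Ab := by
    obtain ⟨g, hg⟩ := CfsgLib.Solvable.exists_conj_le_isPiHall hAbH
      (forall_ppi_of_coprime (CfsgLib.Solvable.pPrimeCore_card_coprime p (X ⧸ O)))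
    rwa [← hK, Subgroup.Normal.conj_smul_eq_self g K] at hg
  have hFK : Cfsg.fittingSubgroup (X ⧸ O) ≤ K := by
    rw [CfsgLib.Solvable.fittingSubgroup_eq_iSup_pCore]
    refine iSup_le fun ⟨q, hq⟩ => ?_
    haveI : Fact q.Prime := ⟨(Nat.mem_primeFactors.1 hq).1⟩
    rcases eq_or_ne q p with rfl | hne
    · rw [CfsgLib.Solvable.pCore_quotient_eq_bot O hO]
      exact bot_le
    · exact CfsgLib.Solvable.le_pPrimeCore (CfsgLib.Solvable.pCore_normal q _)
        (coprime_of_isPGroup hne (CfsgLib.Solvable.pCore_isPGroup q _))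
  have hCK : centralizer (K : Set (X ⧸ O)) ≤ K :=
    ((centralizer_le hFK).trans CfsgLib.Solvable.centralizer_fittingSubgroup_le).trans hFK
  have hAK : Ab = K :=
    le_antisymm (le_trans (fun a ha => mem_centralizer_iff.2 fun b hb =>
      setLike_mul_comm (hKA hb) ha) hCK) hKA
  refine ⟨?_, fun U hU hAU => ?_⟩
  · have h1 : O ⊔ A = Ab.comap f := by
      rw [hAb, comap_map_eq, hf, QuotientGroup.ker_mk', sup_comm]
    rw [h1, hAK]
    exact hKn.comap f
  · have hUb : IsPGroup p (U.map f) := hU.map f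
    have hn : Ab ≤ normalizer (U.map f : Set (X ⧸ O)) :=
      (map_mono hAU).trans (le_normalizer_map f)
    have hdis : U.map f ⊓ Ab = ⊥ :=
      eq_bot_of_isPGroup_of_coprime (hUb.to_le inf_le_left)
        (hAbc.coprime_dvd_left (card_dvd_of_le inf_le_right))
    have hUC : U.map f ≤ centralizer (K : Set (X ⧸ O)) := by
      rw [← commutator_eq_bot_iff_le_centralizer, eq_bot_iff, ← hdis, ← hAK, commutator_le]
      intro u hu a ha
      refine Subgroup.mem_inf.2 ⟨?_, ?_⟩
      · rw [commutatorElement_def, show u * a * u⁻¹ * a⁻¹ = u * (a * u⁻¹ * a⁻¹) by simp [mul_assoc]]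
        exact mul_mem hu ((mem_normalizer_iff.1 (hn ha) _).1 ((U.map f).inv_mem hu))
      · rw [commutatorElement_def]
        refine mul_mem ?_ (Ab.inv_mem ha)
        rw [hAK] at ha ⊢
        exact hKn.conj_mem a ha u
    have hbot : U.map f = ⊥ := eq_bot_iff.2 (hdis ▸ le_inf le_rfl ((hUC.trans hCK).trans hAK.ge))
    rwa [Subgroup.map_eq_bot_iff, hf, QuotientGroup.ker_mk'] at hbot

end Solvable

/-! ## Relative versions -/

variable {G : Type*} [Group G]

/-- `A` is a Hall `p'`-subgroup of `H`. -/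
def HallIn (p : ℕ) (A H : Subgroup G) : Prop :=
  A ≤ H ∧ Cfsg.IsPiHall (ppi p) (A.subgroupOf H)

variable [Finite G] [hp : Fact p.Prime]

theorem HallIn.coprime {A H : Subgroup G} (h : HallIn p A H) : (Nat.card A).Coprime p := by
  have h1 := coprime_of_forall_ppi h.2.1
  rwa [Nat.card_congr (subgroupOfEquivOfLe h.1).toEquiv] at h1

theorem exists_hallIn_ge {H : Subgroup G} [Group.IsSolvable H] {U : Subgroup G} (hUH : U ≤ H)
    (hU : (Nat.card U).Coprime p) : ∃ A, HallIn p A H ∧ U ≤ A := by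
  obtain ⟨A, hA, hUA⟩ := exists_hall_ge_coprime (p := p) (U := U.subgroupOf H)
    (by rwa [Nat.card_congr (subgroupOfEquivOfLe hUH).toEquiv])
  refine ⟨A.map H.subtype, ⟨map_subtype_le A, ?_⟩, fun x hx => ⟨⟨x, hUH hx⟩, hUA hx, rfl⟩⟩
  rwa [subgroupOf, comap_map_eq_self_of_injective H.subtype_injective]

theorem exists_conj_le_hallIn {A H : Subgroup G} [Group.IsSolvable H] (hA : HallIn p A H)
    {U : Subgroup G} (hUH : U ≤ H) (hU : (Nat.card U).Coprime p) :
    ∃ h ∈ H, MulAut.conj h • U ≤ A := by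
  obtain ⟨g, hg⟩ := CfsgLib.Solvable.exists_conj_le_isPiHall hA.2 (K := U.subgroupOf H)
    (forall_ppi_of_coprime (by rwa [Nat.card_congr (subgroupOfEquivOfLe hUH).toEquiv]))
  refine ⟨g, g.2, CfsgLib.Solvable.conj_smul_le_iff.2 fun u hu => ?_⟩
  exact CfsgLib.Solvable.conj_smul_le_iff.1 hg ⟨u, hUH hu⟩ (mem_subgroupOf.2 hu)

/-- A subgroup that is maximal of order prime to `p` is a Hall subgroup of every solvable
subgroup containing it. -/
theorem hallIn_of_maximal {A H : Subgroup G} [Group.IsSolvable H] (hAH : A ≤ H)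
    (hA : (Nat.card A).Coprime p)
    (hmax : ∀ B : Subgroup G, A ≤ B → (Nat.card B).Coprime p → B = A) : HallIn p A H := by
  obtain ⟨B, hB, hAB⟩ := exists_hallIn_ge hAH hA
  rwa [hmax B hAB hB.coprime] at hB

omit [Finite G] hp in
theorem pCoreOf_le (p : ℕ) (H : Subgroup G) : Cfsg.pCoreOf p H ≤ H := map_subtype_le _

omit [Finite G] hp in
theorem pCoreOf_isPGroup (p : ℕ) (H : Subgroup G) : IsPGroup p (Cfsg.pCoreOf p H) :=
  (CfsgLib.Solvable.pCore_isPGroup p H).map _

omit [Finite G] hp in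
theorem le_normalizer_map_normal {H : Subgroup G} (N : Subgroup H) [hN : N.Normal] :
    H ≤ normalizer ((N.map H.subtype : Subgroup G) : Set G) := fun x hx => by
  rw [mem_normalizer_iff]
  intro y
  constructor
  · rintro ⟨n, hn, rfl⟩
    exact ⟨⟨x, hx⟩ * n * ⟨x, hx⟩⁻¹, hN.conj_mem n hn _, rfl⟩
  · rintro ⟨n, hn, hne⟩
    refine ⟨⟨x, hx⟩⁻¹ * n * ⟨x, hx⟩, by simpa using hN.conj_mem n hn (⟨x, hx⟩ : H)⁻¹, ?_⟩
    change (n : G) = x * y * x⁻¹ at hne
    show x⁻¹ * (n : G) * x = y
    rw [hne]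
    simp [mul_assoc]

omit [Finite G] hp in
theorem le_normalizer_pCoreOf (p : ℕ) (H : Subgroup G) :
    H ≤ normalizer ((Cfsg.pCoreOf p H : Subgroup G) : Set G) :=
  haveI := CfsgLib.Solvable.pCore_normal p H
  le_normalizer_map_normal _

/-- `O_p(H) A` is normalized by `H`. -/
theorem le_normalizer_core_sup (hyp : Hyp p G) {A H : Subgroup G} [Group.IsSolvable H]
    (hA : HallIn p A H) : H ≤ normalizer ((Cfsg.pCoreOf p H ⊔ A : Subgroup G) : Set G) := by
  haveI := (core_structure (hyp.subgroup H) hA.2).1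
  have e : (Cfsg.pCore p H ⊔ A.subgroupOf H).map H.subtype = Cfsg.pCoreOf p H ⊔ A := by
    rw [Subgroup.map_sup, subgroupOf_map_subtype, inf_eq_left.2 hA.1]
    rfl
  rw [← e]
  exact le_normalizer_map_normal _

/-- Every `p`-subgroup of `H` normalized by `A` lies in `O_p(H)`. -/
theorem pgroup_le_core (hyp : Hyp p G) {A H : Subgroup G} [Group.IsSolvable H]
    (hA : HallIn p A H) {U : Subgroup G} (hUH : U ≤ H) (hU : IsPGroup p U)
    (hAU : A ≤ normalizer (U : Set G)) : U ≤ Cfsg.pCoreOf p H := by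
  have h1 : U.subgroupOf H ≤ Cfsg.pCore p H := by
    refine (core_structure (hyp.subgroup H) hA.2).2 _
      (hU.comap_of_injective H.subtype H.subtype_injective) fun a ha => ?_
    rw [mem_normalizer_iff]
    intro u
    exact mem_normalizer_iff.1 (hAU (mem_subgroupOf.1 ha)) (u : G)
  exact fun u hu => ⟨⟨u, hUH hu⟩, h1 (mem_subgroupOf.2 hu), rfl⟩

/-- Frattini: `H = O_p(H) N_H(A)`. -/
theorem exists_core_mul_normalizer (hyp : Hyp p G) {A H : Subgroup G} [Group.IsSolvable H]
    (hA : HallIn p A H) {h : G} (hh : h ∈ H) :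
    ∃ o ∈ Cfsg.pCoreOf p H, ∃ n ∈ normalizer (A : Set G), n ∈ H ∧ h = o * n := by
  set O := Cfsg.pCoreOf p H
  have hn := le_normalizer_core_sup hyp hA hh
  have hle : MulAut.conj h • A ≤ O ⊔ A := by
    rw [CfsgLib.Solvable.conj_smul_le_iff]
    intro a ha
    exact (mem_normalizer_iff.1 hn a).1 (mem_sup_right ha)
  have hOc : (Nat.card O).Coprime (Nat.card A) := by
    obtain ⟨k, hk⟩ := (pCoreOf_isPGroup p H).exists_card_eq
    rw [show Nat.card O = p ^ k from hk]
    exact hA.coprime.symm.pow_left k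
  haveI : Group.IsSolvable O :=
    Group.isSolvable_of_isSolvable_injective (inclusion_injective (pCoreOf_le p H))
  obtain ⟨o, ho, heq⟩ := CfsgLib.Solvable.exists_conj_eq_of_coprime (N := O) (B := A)
    (B' := MulAut.conj h • A) (hA.1.trans (le_normalizer_pCoreOf p H)) hle
    (CfsgLib.Solvable.card_conj_smul h A) hOc (Or.inl inferInstance)
  refine ⟨o, ho, o⁻¹ * h, ?_, mul_mem (inv_mem (pCoreOf_le p H ho)) hh, by simp⟩
  refine CfsgLib.Solvable.conj_smul_eq_self_iff.1 ?_
  rw [← CfsgLib.Solvable.conj_smul_conj_smul, ← heq, CfsgLib.Solvable.conj_smul_conj_smul,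
    inv_mul_cancel, map_one, one_smul]

end CfsgLib.PPrimeAbelian
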