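import Cfsg.Agent.Lib.PPrimeAbelian.Count
import Cfsg.Agent.Lib.Char.Burnside

/-!
# Groups whose `p'`-subgroups are abelian of exponent dividing `p - 1` are solvable
-/

set_option autoImplicit false
set_option linter.style.haveILetI false

namespace CfsgLib.PPrimeAbelian

open Subgroup
open scoped commutatorElement

universe u

variable {p : ℕ} [hp : Fact p.Prime]

theorem isSolvable_two {G : Type u} [Group G] [Finite G] (hyp : Hyp 2 G) : Group.IsSolvable G := by
  haveI : Fact (Nat.Prime 2) := ⟨Nat.prime_two⟩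
  have hG : IsPGroup 2 G := fun x => by
    obtain ⟨a, b, hab, ⟨k, hk⟩, hc⟩ := CfsgLib.PNilpotent.exists_pPart_decomp (p := 2) x
    have h1 := (hyp (zpowers (x ^ b)) (by rwa [Nat.card_zpowers])).2 _ (mem_zpowers _)
    rw [show (2 - 1 : ℕ) = 1 from rfl, pow_one] at h1
    rw [h1, mul_one] at hab
    exact ⟨k, by rw [← hk, hab]; exact pow_orderOf_eq_one x⟩
  haveI := hG.isNilpotent
  infer_instance

theorem Hyp.quotient {G : Type u} [Group G] [Finite G] (hyp : Hyp p G) (M : Subgroup G) [M.Normal]
    {q : ℕ} [Fact q.Prime] (hM : IsPGroup q M) : Hyp p (G ⧸ M) := by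
  intro H hH
  set f := QuotientGroup.mk' M with hf
  have hsurj : Function.Surjective f := QuotientGroup.mk'_surjective M
  set K := H.comap f
  have hMK : M ≤ K := fun m hm => by
    show f m ∈ H
    rw [hf, QuotientGroup.mk'_apply, (QuotientGroup.eq_one_iff m).2 hm]
    exact H.one_mem
  suffices h : ∃ C : Subgroup G, (Nat.card C).Coprime p ∧ C.map f = H by
    obtain ⟨C, hC, rfl⟩ := h
    obtain ⟨hc, he⟩ := hyp C hC
    haveI := hc
    refine ⟨Subgroup.map_isMulCommutative C (f := f), ?_⟩
    rintro _ ⟨x, hx, rfl⟩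
    rw [← map_pow, he x hx, map_one]
  have hKH : Nat.card K = Nat.card H * Nat.card M := by
    rw [← card_mul_index (M.subgroupOf K), Nat.card_congr (subgroupOfEquivOfLe hMK).toEquiv, mul_comm]
    congr 1
    have h1 : M.relIndex K = Nat.card (H : Subgroup (G ⧸ M)) := by
      have h2 := Subgroup.relIndex_comap (H := (⊥ : Subgroup (G ⧸ M))) f K
      rw [MonoidHom.comap_bot, hf, QuotientGroup.ker_mk', relIndex_bot_left] at h2
      rw [h2, map_comap_eq_self_of_surjective hsurj]
    exact h1
  obtain ⟨n, hn⟩ := hM.exists_card_eq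
  rcases eq_or_ne q p with rfl | hne
  · have hcop : (Nat.card (M.subgroupOf K)).Coprime (M.subgroupOf K).index := by
      have hidx : (M.subgroupOf K).index = Nat.card H := by
        have h1 := card_mul_index (M.subgroupOf K)
        rw [Nat.card_congr (subgroupOfEquivOfLe hMK).toEquiv, hKH, mul_comm (Nat.card H)] at h1
        exact Nat.eq_of_mul_eq_mul_left Nat.card_pos h1
      rw [Nat.card_congr (subgroupOfEquivOfLe hMK).toEquiv, hidx, hn]
      exact hH.symm.pow_left n
    obtain ⟨C, hC⟩ := Subgroup.exists_right_complement'_of_coprime hcop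
    refine ⟨C.map K.subtype, ?_, ?_⟩
    · rw [card_map_of_injective K.subtype_injective]
      have h1 := hC.card_mul_card
      rw [Nat.card_congr (subgroupOfEquivOfLe hMK).toEquiv, hKH, mul_comm (Nat.card H)] at h1
      rw [Nat.eq_of_mul_eq_mul_left Nat.card_pos h1]
      exact hH
    · refine le_antisymm ?_ fun h hh => ?_
      · rintro _ ⟨_, ⟨c, -, rfl⟩, rfl⟩
        exact c.2
      · obtain ⟨x, rfl⟩ := hsurj h
        obtain ⟨⟨⟨m, hm⟩, c⟩, hmc⟩ := hC.2 ⟨x, hh⟩
        refine ⟨((c : K) : G), ⟨c, c.2, rfl⟩, ?_⟩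
        have h2 : ((m : K) : G) * ((c : K) : G) = x := congrArg Subtype.val hmc
        rw [← h2, map_mul, show f ((m : K) : G) = 1 from
          (QuotientGroup.eq_one_iff _).2 (mem_subgroupOf.1 hm), one_mul]
  · refine ⟨K, ?_, map_comap_eq_self_of_surjective hsurj H⟩
    rw [hKH, hn]
    exact Nat.Coprime.mul_left hH (((Nat.coprime_primes (Fact.out : q.Prime) hp.out).2 hne).pow_left n)

theorem isSolvable_of_five_le (h5 : 5 ≤ p) : ∀ (n : ℕ) (G : Type u) [Group G] [Finite G],
    Nat.card G = n → Hyp p G → Group.IsSolvable G := by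
  intro n
  induction n using Nat.strong_induction_on with
  | _ n ih =>
  intro G _ _ hn hyp
  by_contra hns
  have hnt : Nontrivial G := by
    by_contra h
    rw [not_nontrivial_iff_subsingleton] at h
    exact hns inferInstance
  have hsol : ∀ H : Subgroup G, H ≠ ⊤ → Group.IsSolvable H := fun H hH => by
    refine ih _ ?_ H rfl (hyp.subgroup H)
    rw [← hn]
    exact lt_of_le_of_ne (card_le_card_group H) fun e => hH ((card_eq_iff_eq_top H).1 e)
  have hsimple : ∀ N : Subgroup G, N.Normal → N = ⊥ ∨ N = ⊤ := by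
    intro N hN
    by_contra hcon
    rw [not_or] at hcon
    obtain ⟨M, hMn, hM1, hMN, hmin⟩ := CfsgLib.Solvable.exists_minimal_normal_le N hcon.1
    have hMs : Group.IsSolvable M := hsol M fun h => hcon.2 (top_le_iff.1 (h ▸ hMN))
    haveI : Nontrivial M := (nontrivial_iff_ne_bot M).2 hM1
    have hder : ⁅M, M⁆ = ⊥ := by
      refine (hmin _ inferInstance (commutator_le_self M)).resolve_right fun h => ?_
      refine (Group.IsSolvable.commutator_lt_top_of_nontrivial M).ne (eq_top_iff.2 fun x _ => ?_)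
      have h1 : (x : G) ∈ ⁅M, M⁆ := h.symm ▸ x.2
      rw [← M.map_subtype_commutator] at h1
      obtain ⟨w, hw, hwx⟩ := h1
      exact (Subtype.ext hwx : w = x) ▸ hw
    have hMc : IsMulCommutative M := Subgroup.commutator_self_eq_bot_iff.1 hder
    obtain ⟨q, hq, hqd⟩ := Nat.exists_prime_and_dvd (n := Nat.card M)
      (fun h => hM1 (card_eq_one.1 h))
    haveI : Fact q.Prime := ⟨hq⟩
    have hMp : IsPGroup q M := by
      obtain ⟨x, hx⟩ := exists_prime_orderOf_dvd_card' (G := M) q hqd
      have hΩn : (omega q M hMc).Normal := ⟨fun y hy g => mem_omega.2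
        ⟨hMn.conj_mem y hy.1 g, by rw [conj_pow, hy.2, mul_one, mul_inv_cancel]⟩⟩
      rcases hmin _ hΩn omega_le with h | h
      · exfalso
        have hx' : (x : G) ∈ omega q M hMc :=
          ⟨x.2, by rw [← Subgroup.coe_pow, ← hx, pow_orderOf_eq_one, Subgroup.coe_one]⟩
        rw [h, mem_bot] at hx'
        rw [show x = 1 from Subtype.ext hx', orderOf_one] at hx
        exact hq.one_lt.ne hx
      · exact h ▸ isPGroup_omega
    refine hns ((Group.isSolvable_iff_subgroup_quotient M).2 ⟨hMs, ?_⟩)
    refine ih _ ?_ (G ⧸ M) rfl (hyp.quotient M hMp)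
    rw [← hn, ← index_eq_card, ← card_mul_index M]
    exact lt_mul_of_one_lt_left (Nat.pos_of_ne_zero index_ne_zero_of_finite)
      (M.one_lt_card_iff_ne_bot.mpr hM1)
  refine not_cfg (p := p) ⟨hyp, h5, hnt, ?_, hsimple, hsol⟩
  refine (hsimple _ inferInstance).resolve_left fun h => hns ?_
  refine Group.isSolvable_of_comm fun a b => ?_
  have h1 : ⁅a, b⁆ ∈ commutator G := Subgroup.commutator_mem_commutator (mem_top a) (mem_top b)
  rw [h, mem_bot, commutatorElement_eq_one_iff_mul_comm] at h1
  exact h1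

theorem isSolvable {G : Type u} [Group G] [Finite G] (hyp : Hyp p G) : Group.IsSolvable G := by
  rcases lt_or_ge p 5 with h | h
  · have := hp.out.two_le
    interval_cases p
    · exact isSolvable_two hyp
    · refine CfsgLib.Char.isSolvable_of_two_primes 2 3 Nat.prime_two Nat.prime_three _ G rfl
        fun r hr hrd => ?_
      by_contra hne
      rw [not_or] at hne
      haveI : Fact r.Prime := ⟨hr⟩
      haveI : Fact (Nat.Prime 3) := ⟨Nat.prime_three⟩
      exact hne.1 ((Nat.prime_dvd_prime_iff_eq hr Nat.prime_two).1 (hyp.prime_dvd_sub_one hrd hne.2))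
    · exact absurd hp.out (by decide)
  · exact isSolvable_of_five_le h _ G rfl hyp

end CfsgLib.PPrimeAbelian
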