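import Cfsg.Agent.Lib.PPrimeAbelian.Unique
import Cfsg.Agent.Lib.Fusion.SL2Stable
import Cfsg.Agent.Lib.Fusion.ZJFusion
import Cfsg.Agent.Lib.Linear.Transvection

/-!
# `A` is normal in `M`

By Glauberman's ZJ theorem: otherwise `M` would control `p`-transfer and have a `p`-quotient.
-/

set_option autoImplicit false
set_option linter.style.haveILetI false
set_option maxHeartbeats 400000

namespace CfsgLib.PPrimeAbelian

open Subgroup
open CfsgLib.ZJCenter (zj)
open scoped Pointwise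

universe u

variable {p : ℕ} {G : Type u} [Group G] [Finite G] [hp : Fact p.Prime]

omit [Finite G] in
theorem sl2Free (c : Cfg p G) : CfsgLib.SL2Stable.SL2Free p G := by
  intro K f hf
  have h5 := c.five
  have hK4 : ∃ a : ZMod p, a ≠ 0 ∧ a ^ 2 ≠ 1 :=
    CfsgLib.Linear.exists_sq_ne_one_of_four_le_card (by rw [Nat.card_zmod]; omega)
  have hperf : commutator (Matrix.SpecialLinearGroup (Fin 2) (ZMod p)) = ⊤ :=
    CfsgLib.Linear.commutator_SL_eq_top (Or.inr hK4)
  have hneg : (-1 : Matrix.SpecialLinearGroup (Fin 2) (ZMod p)) ≠ 1 := by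
    intro h
    have h2 := congrFun (congrFun (congrArg Subtype.val h) 0) 0
    simp only [Matrix.SpecialLinearGroup.coe_neg, Matrix.SpecialLinearGroup.coe_one,
      Matrix.neg_apply, Matrix.one_apply_eq] at h2
    have h3 : ((2 : ℕ) : ZMod p) = 0 := by
      push_cast
      linear_combination -h2
    rw [ZMod.natCast_eq_zero_iff] at h3
    have := Nat.le_of_dvd two_pos h3
    omega
  haveI : Nontrivial (Matrix.SpecialLinearGroup (Fin 2) (ZMod p)) := ⟨⟨_, _, hneg⟩⟩
  rcases eq_or_ne K ⊤ with rfl | hK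
  · let g : G →* Matrix.SpecialLinearGroup (Fin 2) (ZMod p) :=
      f.comp (Subgroup.topEquiv.symm : G ≃* (⊤ : Subgroup G)).toMonoidHom
    have hg : Function.Surjective g := hf.comp Subgroup.topEquiv.symm.surjective
    rcases c.simple g.ker inferInstance with hker | hker
    · obtain ⟨x, hx⟩ := hg (-1)
      have hxc : x ∈ center G := mem_center_iff.2 fun y =>
        (MonoidHom.ker_eq_bot_iff g).1 hker (by
          rw [map_mul, map_mul, hx]
          exact Subtype.ext (by simp))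
      rw [c.center_eq_bot, mem_bot] at hxc
      exact hneg (by rw [← hx, hxc, map_one])
    · obtain ⟨x, hx⟩ := hg (-1)
      exact hneg (by rw [← hx]; exact MonoidHom.mem_ker.1 (hker ▸ mem_top x))
  · haveI := c.sol K hK
    haveI := Group.isSolvable_of_surjective hf
    exact (Group.IsSolvable.commutator_lt_top_of_nontrivial _).ne hperf

theorem stableClass (hp2 : p ≠ 2) : CfsgLib.ZJFusion.StableClass.{u} p
    (fun X [Group X] => CfsgLib.SL2Stable.SL2Free p X) :=
  { subgroup := fun X _ _ Y h => h.subgroup Y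
    quotient := fun X _ _ N _ h => h.of_surjective (QuotientGroup.mk'_surjective N)
    stable := fun X _ _ W _ _ h φ hφ hW a ha =>
      CfsgLib.SL2Stable.quad_mem_pCore_of_free hp2 h φ hφ hW ha }

/-- The focal subgroup: a Sylow `p`-subgroup lies in `[P, N(Z(J(P)))]`. -/
theorem sylow_le_commutator (c : Cfg p G) (P : Sylow p G) :
    (P : Subgroup G) ≤ ⁅(P : Subgroup G),
      normalizer ((zj 0 (P : Subgroup G) : Subgroup G) : Set G)⁆ := by
  have hp2 : p ≠ 2 := by have := c.five; omega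
  have hctrl := CfsgLib.ZJFusion.controls hp2 (e := 0) (Or.inl rfl) (stableClass hp2) (sl2Free c) P
  refine le_trans ?_ (CfsgLib.Transfer.focalSubgroup_le_of_controls fun x hx g hg => ?_)
  · rw [← Subgroup.commutator_inf_eq_focalSubgroup, c.perfect]
    exact le_inf le_top le_rfl
  · obtain ⟨n, hn, he⟩ := hctrl (zpowers x) (zpowers_le.2 hx) g⁻¹ fun d hd => by
      obtain ⟨k, rfl⟩ := mem_zpowers_iff.1 hd
      rw [inv_inv, ← conj_zpow]
      exact (P : Subgroup G).zpow_mem hg k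
    refine ⟨n⁻¹, inv_mem hn, ?_⟩
    have := he x (mem_zpowers x)
    simpa using this

theorem sylow_ne_bot (c : Cfg p G) (P : Sylow p G) : (P : Subgroup G) ≠ ⊥ := by
  intro h
  have h1 : ¬ p ∣ Nat.card G := fun hd => P.ne_bot_of_dvd_card hd h
  exact c.ne_top_of_coprime (U := ⊤) (by rw [card_top]; exact (hp.out.coprime_iff_not_dvd.2 h1).symm) rfl

namespace IsClass

variable {A M : Subgroup G}

/-- No subgroup `M` of this kind contains the normalizer of `Z(J(P))`. -/
theorem not_normalizer_zj_le (hM : IsClass p A M) (c : Cfg p G) (P : Sylow p G)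
    (hP : (P : Subgroup G) ≤ M) :
    ¬ normalizer ((zj 0 (P : Subgroup G) : Subgroup G) : Set G) ≤ M := by
  intro hL
  haveI := c.sol M hM.ne_top
  have hall := hM.hallIn c
  set O := Cfsg.pCoreOf p M
  set N := O ⊔ A
  have hNM : N ≤ M := sup_le (pCoreOf_le p M) hM.le
  haveI hNn : (N.subgroupOf M).Normal :=
    normal_subgroupOf_of_le_normalizer (le_normalizer_core_sup c.hyp hall)
  have hX : IsPGroup p (M ⧸ N.subgroupOf M) := by
    refine IsPGroup.of_card (n := _)
      (Nat.eq_prime_pow_of_unique_prime_dvd Nat.card_pos.ne' fun {q} hq hd => ?_)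
    by_contra hne
    refine hall.2.2 q hq hne (hd.trans ?_)
    rw [← index_eq_card]
    exact index_dvd_of_le fun x hx => mem_subgroupOf.2 (mem_sup_right (mem_subgroupOf.1 hx))
  haveI := hX.isNilpotent
  set f := QuotientGroup.mk' (N.subgroupOf M)
  have hf : Function.Surjective f := QuotientGroup.mk'_surjective _
  set P' := (P.subtype hP).mapSurjective hf
  have htop : (P' : Subgroup (M ⧸ N.subgroupOf M)) = ⊤ :=
    (P'.is_maximal' (hX.to_subgroup ⊤) le_top).symm
  have hPc : (P : Subgroup G).subgroupOf M ≤ commutator M := by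
    intro x hx
    have h1 := Subgroup.commutator_mono hP hL (sylow_le_commutator c P hx)
    rw [← M.map_subtype_commutator] at h1
    obtain ⟨w, hw, hwx⟩ := h1
    exact (Subtype.ext hwx : w = x) ▸ hw
  have hXc : commutator (M ⧸ N.subgroupOf M) = ⊤ := by
    rw [eq_top_iff, ← htop, Sylow.coe_mapSurjective, commutator_def, ← map_top_of_surjective f hf,
      ← Subgroup.map_commutator, ← commutator_def]
    exact map_mono hPc
  have hsub : Subsingleton (M ⧸ N.subgroupOf M) := by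
    by_contra hns
    rw [not_subsingleton_iff_nontrivial] at hns
    exact (Group.IsSolvable.commutator_lt_top_of_nontrivial _).ne hXc
  have hMN : M ≤ N := fun x hx => by
    have : f ⟨x, hx⟩ = 1 := Subsingleton.elim _ _
    exact mem_subgroupOf.1 ((QuotientGroup.eq_one_iff _).1 this)
  obtain ⟨r, hr, hd⟩ := Nat.exists_prime_and_dvd (n := Nat.card A)
    (fun h => hM.ne_bot (card_eq_one.1 h))
  haveI : Fact r.Prime := ⟨hr⟩
  have hrp : r ≠ p := fun h => hr.ne_one (Nat.eq_one_of_dvd_coprimes hM.max.1 hd (h ▸ dvd_rfl))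
  obtain ⟨-, R, hRA⟩ := exists_class_sylow c hM.max hd
  obtain ⟨y, k, hy, hyN, v, hv, -, hne⟩ :=
    exists_move c (hd.trans (card_subgroup_dvd_card A)) hrp R
  have hyM : y ∈ M := hM.normalizer_le c (hRA.trans hM.le)
    (hM.max.1.coprime_dvd_left (card_dvd_of_le hRA)) (R.ne_bot_of_dvd_card
      (hd.trans (card_subgroup_dvd_card A))) hyN
  have hOA : A ≤ normalizer (O : Set G) := hM.le.trans (le_normalizer_pCoreOf p M)
  have hyO : y ∈ O := by
    obtain ⟨n, hn⟩ := (pCoreOf_isPGroup p M).exists_card_eq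
    have hyn : zpowers y ≤ normalizer (O : Set G) :=
      (zpowers_le.2 hyM).trans (le_normalizer_pCoreOf p M)
    have h1 : Nat.card (O ⊔ zpowers y : Subgroup G) ∣ Nat.card O * Nat.card A :=
      (card_dvd_of_le (sup_le le_sup_left (zpowers_le.2 (hMN hyM)))).trans
        (CfsgLib.Solvable.card_sup_dvd hOA)
    have h2 : Nat.card (O ⊔ zpowers y : Subgroup G) ∣ p ^ (n + k) := by
      have := CfsgLib.Solvable.card_sup_dvd hyn
      rwa [show Nat.card O = p ^ n from hn, Nat.card_zpowers, hy, ← pow_add] at this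
    have h3 : (Nat.card (O ⊔ zpowers y : Subgroup G)).Coprime (Nat.card A) :=
      (hM.max.1.symm.pow_left (n + k)).coprime_dvd_left h2
    have h4 := h3.dvd_of_dvd_mul_right h1
    have h5 : O = O ⊔ zpowers y :=
      eq_of_le_of_card_ge le_sup_left (Nat.le_of_dvd Nat.card_pos h4)
    exact h5 ▸ mem_sup_right (mem_zpowers y)
  apply hne
  have hc : y * v * y⁻¹ * v⁻¹ ∈ O ⊓ A := by
    refine mem_inf.2 ⟨?_, ?_⟩
    · rw [show y * v * y⁻¹ * v⁻¹ = y * (v * y⁻¹ * v⁻¹) by simp [mul_assoc]]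
      exact O.mul_mem hyO ((mem_normalizer_iff.1 (hOA (hRA hv)) _).1 (O.inv_mem hyO))
    · exact A.mul_mem (hRA ((mem_normalizer_iff.1 hyN v).1 hv)) (A.inv_mem (hRA hv))
  have hbot : O ⊓ A = ⊥ := eq_bot_of_isPGroup_of_coprime ((pCoreOf_isPGroup p M).to_le inf_le_left)
    (hM.max.1.coprime_dvd_left (card_dvd_of_le inf_le_right))
  rw [hbot, mem_bot, mul_inv_eq_one, mul_inv_eq_iff_eq_mul] at hc
  exact hc

omit [Finite G] hp in
theorem card_dvd_of_forall_sylow {A B : Subgroup G} [Finite G]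
    (h : ∀ r : ℕ, r.Prime → r ∣ Nat.card A → ∃ R : Sylow r G, (R : Subgroup G) ≤ B) :
    Nat.card A ∣ Nat.card B := by
  refine (Nat.dvd_iff_prime_pow_dvd_dvd _ _).2 fun q k hq hqk => ?_
  rcases Nat.eq_zero_or_pos k with rfl | hk
  · simp
  haveI : Fact q.Prime := ⟨hq⟩
  obtain ⟨R, hR⟩ := h q hq ((dvd_pow_self q hk.ne').trans hqk)
  exact (R.pow_dvd_card_of_pow_dvd_card (hqk.trans (card_subgroup_dvd_card A))).trans (card_dvd_of_le hR)

/-- **`A` is normal in `M`.** -/
theorem le_normalizer (hM : IsClass p A M) (c : Cfg p G) : M ≤ normalizer (A : Set G) := by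
  haveI := c.sol M hM.ne_top
  have hall := hM.hallIn c
  haveI := (c.hyp A hM.max.1).1
  have hp2 : p ≠ 2 := by have := c.five; omega
  haveI hKn : (Cfsg.pPrimeCore p M).Normal := CfsgLib.Solvable.pPrimeCore_normal p M
  set B := (Cfsg.pPrimeCore p M).map M.subtype
  have hBM : B ≤ M := map_subtype_le _
  have hBc : (Nat.card B).Coprime p := by
    rw [card_map_of_injective M.subtype_injective]
    exact CfsgLib.Solvable.pPrimeCore_card_coprime p M
  have hBn : M ≤ normalizer (B : Set G) := le_normalizer_map_normal _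
  have hBA : B ≤ A := by
    obtain ⟨m, hm, hle⟩ := hM.exists_conj_le c hBM hBc
    rwa [CfsgLib.Solvable.conj_smul_eq_self_iff.2 (hBn hm)] at hle
  by_cases hall' : ∀ r : ℕ, r.Prime → r ∣ Nat.card A → ∃ R : Sylow r G, (R : Subgroup G) ≤ B
  · have : B = A := eq_of_le_of_card_ge hBA
      (Nat.le_of_dvd Nat.card_pos (card_dvd_of_forall_sylow hall'))
    rwa [this] at hBn
  push Not at hall'
  obtain ⟨r, hr, hrA, hRB⟩ := hall'
  haveI : Fact r.Prime := ⟨hr⟩
  obtain ⟨-, R, hRA⟩ := exists_class_sylow c hM.max hrA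
  have hrG : r ∣ Nat.card G := hrA.trans (card_subgroup_dvd_card A)
  have hrp : r ≠ p := fun h => hr.ne_one (Nat.eq_one_of_dvd_coprimes hM.max.1 hrA (h ▸ dvd_rfl))
  -- the quotient by `O_{p'}(M)`
  set T : Sylow p M := default
  rcases eq_or_ne ((T : Subgroup M)) ⊥ with hT | hT
  · have hcop : (Nat.card M).Coprime p := (hp.out.coprime_iff_not_dvd.2 fun hd =>
      T.ne_bot_of_dvd_card hd hT).symm
    rw [hM.max.2 M hM.le hcop]
    exact Subgroup.le_normalizer
  set K := Cfsg.pPrimeCore p M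
  set f := QuotientGroup.mk' K with hf
  have hsurj : Function.Surjective f := QuotientGroup.mk'_surjective K
  haveI : Group.IsSolvable (M ⧸ K) := Group.isSolvable_of_surjective hsurj
  have hinj : Function.Injective (f.comp (T : Subgroup M).subtype) := by
    rw [← MonoidHom.ker_eq_bot_iff, eq_bot_iff]
    intro x hx
    have hxK : (x : M) ∈ K := (QuotientGroup.eq_one_iff _).1 hx
    obtain ⟨j, hj⟩ := orderOf_eq_pow_of_mem T.isPGroup' x.2
    exact mem_bot.2 (Subtype.ext (eq_one_of_pow_coprime hj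
      (coprime_of_mem (CfsgLib.Solvable.pPrimeCore_card_coprime p M) hxK)))
  set Tb := T.mapSurjective hsurj
  have hnorm : (zj 0 (Tb : Subgroup (M ⧸ K))).Normal := by
    haveI := CfsgLib.Solvable.pCore_normal p (M ⧸ K)
    have hO' : Cfsg.pPrimeCore p (M ⧸ K) = ⊥ := CfsgLib.Solvable.pPrimeCore_quotient_eq_bot K rfl
    refine CfsgLib.ZJFusion.zj_normal_of_constrained hp2 (Or.inl rfl) (stableClass hp2)
      (((sl2Free c).subgroup M).of_surjective hsurj) Tb (CfsgLib.Solvable.pCore_le_sylow Tb)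
      (fun N hN hNp => CfsgLib.Solvable.le_pCore hN hNp)
      (fun N hN hNc => eq_bot_iff.2 (hO' ▸ CfsgLib.Solvable.le_pPrimeCore hN hNc))
      (inf_le_right.trans ?_)
    have hF : Cfsg.fittingSubgroup (M ⧸ K) = Cfsg.pCore p (M ⧸ K) := by
      refine le_antisymm ?_ CfsgLib.Solvable.pCore_le_fittingSubgroup
      rw [CfsgLib.Solvable.fittingSubgroup_eq_iSup_pCore]
      refine iSup_le fun ⟨q, hq⟩ => ?_
      haveI : Fact q.Prime := ⟨(Nat.mem_primeFactors.1 hq).1⟩
      rcases eq_or_ne q p with rfl | hne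
      · exact le_rfl
      · exact (CfsgLib.Solvable.le_pPrimeCore (CfsgLib.Solvable.pCore_normal q _)
          (coprime_of_isPGroup hne (CfsgLib.Solvable.pCore_isPGroup q _))).trans (hO'.le.trans bot_le)
    rw [← hF]
    exact CfsgLib.Solvable.centralizer_fittingSubgroup_le
  set ι := (M.subtype).comp (T : Subgroup M).subtype
  set P₁ := (T : Subgroup M).map M.subtype
  set Z₀ := zj 0 (⊤ : Subgroup (T : Subgroup M))
  set ZM := Z₀.map (T : Subgroup M).subtype
  have hP₁ : (⊤ : Subgroup (T : Subgroup M)).map ι = P₁ := by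
    rw [← map_map, ← MonoidHom.range_eq_map, range_subtype]
  have hZ : ZM.map M.subtype = zj 0 P₁ := by
    rw [map_map, CfsgLib.ZJCenter.zj_map (f := ι)
      (fun a b h => (T : Subgroup M).subtype_injective (M.subtype_injective h)),
      hP₁]
  have hZb : ZM.map f = zj 0 (Tb : Subgroup (M ⧸ K)) := by
    rw [map_map, CfsgLib.ZJCenter.zj_map hinj, Sylow.coe_mapSurjective, ← map_map,
      ← MonoidHom.range_eq_map, range_subtype]
  have hKZ : (K ⊔ ZM).Normal := by
    have : K ⊔ ZM = (ZM.map f).comap f := by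
      rw [comap_map_eq, hf, QuotientGroup.ker_mk', sup_comm]
    rw [this, hZb]
    exact hnorm.comap f
  set Z := zj 0 P₁
  have hP₁p : IsPGroup p P₁ := T.isPGroup'.map _
  have hP₁1 : P₁ ≠ ⊥ := fun h => hT ((map_eq_bot_iff_of_injective _ M.subtype_injective).1 h)
  have hZ1 : Z ≠ ⊥ := CfsgLib.ZJCenter.zj_ne_bot (Or.inl rfl) hP₁p hP₁1
  have hZp : IsPGroup p Z := hP₁p.to_le (CfsgLib.ZJCenter.zj_le 0 P₁)
  have hZM : Z ≤ M := (CfsgLib.ZJCenter.zj_le 0 P₁).trans (map_subtype_le _)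
  -- `M = O_{p'}(M) N_M(Z)`
  have hdec : ∀ m ∈ M, ∃ b ∈ B, b * m ∈ normalizer (Z : Set G) := by
    intro m hm
    have hle : MulAut.conj m • Z ≤ B ⊔ Z := by
      rw [CfsgLib.Solvable.conj_smul_le_iff, ← hZ, ← Subgroup.map_sup]
      rintro _ ⟨z, hz, rfl⟩
      exact ⟨⟨m, hm⟩ * z * ⟨m, hm⟩⁻¹, hKZ.conj_mem z (mem_sup_right hz) _, rfl⟩
    haveI := (c.hyp B hBc).1
    obtain ⟨b, hb, he⟩ := CfsgLib.Solvable.exists_conj_eq_of_coprime (N := B) (B := Z)
      (B' := MulAut.conj m • Z) (hZM.trans hBn) hle (CfsgLib.Solvable.card_conj_smul m Z)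
      (by obtain ⟨n, hn⟩ := hZp.exists_card_eq; rw [show Nat.card Z = p ^ n from hn]; exact hBc.pow_right n)
      (Or.inl (Group.isSolvable_of_comm fun a b => mul_comm' a b))
    refine ⟨b⁻¹, inv_mem hb, CfsgLib.Solvable.conj_smul_eq_self_iff.1 ?_⟩
    rw [← CfsgLib.Solvable.conj_smul_conj_smul, ← he, CfsgLib.Solvable.conj_smul_conj_smul,
      inv_mul_cancel, map_one, one_smul]
  set V := (R : Subgroup G) ⊓ normalizer (Z : Set G)
  -- every element of `R` is in `(R ∩ B) V`
  have hsplit : ∀ x ∈ (R : Subgroup G), ∃ β ∈ B, ∃ v ∈ V, x = β * v := by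
    intro x hx
    obtain ⟨b, hb, hbx⟩ := hdec x (hM.le (hRA hx))
    set h := b * x with hh
    have hhA : h ∈ A := mul_mem (hBA hb) (hRA hx)
    obtain ⟨i₁, i₂, hb12, ⟨s, hs⟩, hb2⟩ := CfsgLib.PNilpotent.exists_pPart_decomp (p := r) b⁻¹
    obtain ⟨j₁, j₂, hh12, ⟨t, ht⟩, hh2⟩ := CfsgLib.PNilpotent.exists_pPart_decomp (p := r) h
    have hbA : b⁻¹ ∈ A := inv_mem (hBA hb)
    have hb1R : b⁻¹ ^ i₁ ∈ (R : Subgroup G) := mem_sylow_of_mem hRA (pow_mem hbA _) hs
    have hh1R : h ^ j₁ ∈ (R : Subgroup G) := mem_sylow_of_mem hRA (pow_mem hhA _) ht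
    refine ⟨b⁻¹ ^ i₁, pow_mem (inv_mem hb) _, h ^ j₁, mem_inf.2 ⟨hh1R, pow_mem hbx _⟩, ?_⟩
    have hcm : ∀ a ∈ A, ∀ a' ∈ A, Commute a a' := fun a ha a' ha' => setLike_mul_comm ha ha'
    set w := b⁻¹ ^ i₂ * h ^ j₂
    have hxw : x = b⁻¹ ^ i₁ * h ^ j₁ * w := by
      calc x = b⁻¹ * h := by simp [hh]
        _ = (b⁻¹ ^ i₁ * b⁻¹ ^ i₂) * (h ^ j₁ * h ^ j₂) := by rw [hb12, hh12]
        _ = _ := by
          simp only [w, mul_assoc]
          rw [← mul_assoc (b⁻¹ ^ i₂), (hcm _ (pow_mem hbA i₂) _ (pow_mem hhA j₁)).eq, mul_assoc]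
    have hwR : w ∈ (R : Subgroup G) := by
      have : w = (b⁻¹ ^ i₁ * h ^ j₁)⁻¹ * x := by rw [hxw]; simp [mul_assoc]
      rw [this]
      exact mul_mem (inv_mem (mul_mem hb1R hh1R)) hx
    have hwc : (orderOf w).Coprime r :=
      (Nat.Coprime.mul_left hb2 hh2).coprime_dvd_left
        (Commute.orderOf_mul_dvd_mul_orderOf (hcm _ (pow_mem hbA i₂) _ (pow_mem hhA j₂)))
    obtain ⟨l, hl⟩ := orderOf_eq_pow_of_mem R.isPGroup' hwR
    rw [hxw, eq_one_of_pow_coprime hl hwc, mul_one]
  -- `V` is not cyclic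
  have hVc : (Nat.card V).Coprime p := (sylow_coprime hrp R).coprime_dvd_left (card_dvd_of_le inf_le_left)
  have hR1 : (R : Subgroup G) ≠ ⊥ := R.ne_bot_of_dvd_card hrG
  have hNR : normalizer ((R : Subgroup G) : Set G) ≤ M :=
    hM.normalizer_le c (hRA.trans hM.le) (sylow_coprime hrp R) hR1
  have hncyc : ¬ IsCyclic V := by
    intro hcyc
    obtain ⟨⟨c₀, hc₀⟩, hgen⟩ := hcyc.exists_generator
    have hRc : ∀ x ∈ (R : Subgroup G), ∃ β ∈ B, ∃ k : ℤ, x = β * c₀ ^ k := by
      intro x hx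
      obtain ⟨β, hβ, v, hv, rfl⟩ := hsplit x hx
      obtain ⟨k, hk⟩ := mem_zpowers_iff.1 (hgen ⟨v, hv⟩)
      exact ⟨β, hβ, k, by rw [show v = c₀ ^ k by simpa using (congrArg Subtype.val hk).symm]⟩
    have hcM : c₀ ∈ M := hM.le (hRA hc₀.1)
    -- `p`-elements of `N(R)` centralize `R` modulo `B`
    have hact : ∀ y ∈ normalizer ((R : Subgroup G) : Set G), ∀ j, orderOf y = p ^ j →
        ∀ x ∈ (R : Subgroup G), x⁻¹ * (y * x * y⁻¹) ∈ B := by
      intro y hy j hj x hx
      have hyM : y ∈ M := hNR hy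
      set π : M →* M ⧸ K := f
      have hker : ∀ (g : M), π g = 1 → (g : G) ∈ B := fun g hg =>
        ⟨g, (QuotientGroup.eq_one_iff g).1 hg, rfl⟩
      have hB1 : ∀ (g : M), (g : G) ∈ B → π g = 1 := by
        intro g ⟨g', hg', he⟩
        rw [← Subtype.ext (a1 := g') (a2 := g) he]
        exact (QuotientGroup.eq_one_iff g').2 hg'
      set γ := π ⟨c₀, hcM⟩
      set η := π ⟨y, hyM⟩
      have hγr : ∃ i, orderOf γ = r ^ i := by
        obtain ⟨i, hi⟩ := orderOf_eq_pow_of_mem R.isPGroup' hc₀.1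
        obtain ⟨i', -, hi'⟩ := (Nat.dvd_prime_pow hr).1
          ((orderOf_map_dvd π ⟨c₀, hcM⟩).trans (by rw [← orderOf_coe]; exact hi.dvd))
        exact ⟨i', hi'⟩
      obtain ⟨i, hi⟩ := hγr
      obtain ⟨β, hβ, k, hk⟩ := hRc _ ((mem_normalizer_iff.1 hy c₀).1 hc₀.1)
      obtain ⟨k', hk'⟩ : ∃ k' : ℕ, γ ^ k' = γ ^ k :=
        Submonoid.mem_powers_iff _ _ |>.1 (mem_powers_iff_mem_zpowers.2 (zpow_mem (mem_zpowers γ) k))
      have hconj : η * γ * η⁻¹ = γ ^ k' := by
        rw [hk', ← map_inv, ← map_mul, ← map_mul, ← map_zpow]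
        have e : (⟨y, hyM⟩ * ⟨c₀, hcM⟩ * ⟨y, hyM⟩⁻¹ : M) =
            ⟨β, hBM hβ⟩ * ⟨c₀, hcM⟩ ^ k := Subtype.ext (by simpa using hk)
        rw [e, map_mul, hB1 ⟨β, hBM hβ⟩ hβ, one_mul]
      have hiter : ∀ n : ℕ, η ^ n * γ * (η ^ n)⁻¹ = γ ^ k' ^ n := by
        intro n
        induction n with
        | zero => simp
        | succ n ihn =>
          rw [pow_succ', pow_succ, mul_inv_rev, show η * η ^ n * γ * ((η ^ n)⁻¹ * η⁻¹) =
            η * (η ^ n * γ * (η ^ n)⁻¹) * η⁻¹ by simp [mul_assoc], ihn, ← conj_pow, hconj,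
            ← pow_mul, mul_comm]
      have hηj : η ^ p ^ j = 1 := by
        rw [← map_pow, show (⟨y, hyM⟩ : M) ^ p ^ j = 1 from Subtype.ext (by
          rw [SubmonoidClass.coe_pow, ← hj]; exact pow_orderOf_eq_one y), map_one]
      have h1 := hiter (p ^ j)
      rw [hηj, one_mul, inv_one, mul_one] at h1
      have h2 : k' ^ p ^ j ≡ 1 [MOD r ^ i] := by
        rw [← hi]
        exact pow_eq_pow_iff_modEq.1 (by rw [pow_one]; exact h1.symm)
      have h3 := pow_modEq_one (c.hyp.prime_lt hrG hrp) h2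
      have hfix : η * γ * η⁻¹ = γ := by
        rw [hconj]
        conv_rhs => rw [← pow_one γ]
        exact pow_eq_pow_iff_modEq.2 (by rwa [hi])
      obtain ⟨β', hβ', l, hl⟩ := hRc x hx
      have hxM : x ∈ M := hM.le (hRA hx)
      refine hker (⟨x, hxM⟩⁻¹ * (⟨y, hyM⟩ * ⟨x, hxM⟩ * ⟨y, hyM⟩⁻¹)) ?_
      have e : π ⟨x, hxM⟩ = γ ^ l := by
        rw [← map_zpow, show (⟨x, hxM⟩ : M) = ⟨β', hBM hβ'⟩ * ⟨c₀, hcM⟩ ^ l from
          Subtype.ext (by simpa using hl), map_mul, hB1 ⟨β', hBM hβ'⟩ hβ', one_mul]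
      rw [map_mul, map_mul, map_mul, map_inv, map_inv, e, ← conj_zpow, hfix, inv_mul_cancel]
    -- so `R ≤ B`
    refine hRB R fun x hx => ?_
    set NR := normalizer ((R : Subgroup G) : Set G)
    set P₀ := ((default : Sylow p NR) : Subgroup NR).map NR.subtype
    have hP₀ : P₀ ≤ NR := map_subtype_le _
    have hP₀p : IsPGroup p P₀ := (default : Sylow p NR).isPGroup'.map _
    obtain ⟨n₀, hn₀⟩ := hP₀p.exists_card_eq
    have hP₀B : P₀ ≤ normalizer (((R : Subgroup G) ⊓ B : Subgroup G) : Set G) := fun g hg =>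
      inf_normalizer_le_normalizer_inf ⟨hP₀ hg, hBn (hNR (hP₀ hg))⟩
    haveI := (c.hyp _ (sylow_coprime hrp R)).1
    obtain ⟨d, hd, hxd⟩ := CfsgLib.Solvable.exists_fixed_mem_coset (A := P₀) (K := (R : Subgroup G))
      (D := (R : Subgroup G) ⊓ B) hP₀ inf_le_left hP₀B
      (by rw [hn₀]; exact (sylow_coprime hrp R).symm.pow_left n₀)
      (Or.inr (Group.isSolvable_of_comm fun a b =>
        Subtype.ext (setLike_mul_comm (s := (R : Subgroup G)) a.2.1 b.2.1))) hx
      (fun a ha => by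
        obtain ⟨j, hj⟩ := orderOf_eq_pow_of_mem hP₀p ha
        exact mem_inf.2 ⟨mul_mem (inv_mem hx) ((mem_normalizer_iff.1 (hP₀ ha) x).1 hx),
          hact a (hP₀ ha) j hj x hx⟩)
    obtain ⟨hzR, hzP⟩ := mem_inf.1 hxd
    -- a fixed point of `P₀` in `R` is centralized by `N(R)`
    have hCP : NR ≤ centralizer ((R : Subgroup G) : Set G) ⊔ P₀ := by
      set C := centralizer ((R : Subgroup G) : Set G) ⊔ P₀
      have hC : C ≤ NR := sup_le (Subgroup.centralizer_le_normalizer _) hP₀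
      have hidx : C.relIndex NR = 1 := by
        by_contra hne1
        obtain ⟨q, hq, hqd⟩ := Nat.exists_prime_and_dvd hne1
        haveI : Fact q.Prime := ⟨hq⟩
        have hS : ∀ S : Sylow q NR, (S : Subgroup NR).map NR.subtype ≤ C → False := by
          intro S hS
          have hle : (S : Subgroup NR) ≤ C.subgroupOf NR := fun g hg => hS ⟨g, hg, rfl⟩
          exact S.not_dvd_index' (Subgroup.index_ne_zero_of_finite) (hqd.trans (index_dvd_of_le hle))
        rcases eq_or_ne q p with rfl | hqp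
        · exact hS default le_sup_right
        · refine hS default fun g hg => mem_sup_left ?_
          have hgq : (Nat.card (((default : Sylow q NR) : Subgroup NR).map NR.subtype)).Coprime p :=
            coprime_of_isPGroup hqp ((default : Sylow q NR).isPGroup'.map _)
          have hn : ((default : Sylow q NR) : Subgroup NR).map NR.subtype ≤
              normalizer ((R : Subgroup G) : Set G) := map_subtype_le _
          have hcard : (Nat.card ((R : Subgroup G) ⊔
              ((default : Sylow q NR) : Subgroup NR).map NR.subtype : Subgroup G)).Coprime p :=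
            Nat.Coprime.coprime_dvd_left (CfsgLib.Solvable.card_sup_dvd hn)
              (Nat.Coprime.mul_left (sylow_coprime hrp R) hgq)
          exact mem_centralizer_iff.2 fun v hv =>
            (c.hyp.commute hcard (mem_sup_left hv) (mem_sup_right hg)).eq
      exact relIndex_eq_one.1 hidx
    have hz1 : x * d = 1 := by
      refine CfsgLib.Transfer.abelian_sylow_centralPart_inf_commutator R
        (c.hyp _ (sylow_coprime hrp R)).1 hzR ?_ (by rw [c.perfect]; exact mem_top _)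
      have hle : centralizer ((R : Subgroup G) : Set G) ⊔ P₀ ≤ centralizer ({x * d} : Set G) :=
        sup_le (Subgroup.centralizer_le (Set.singleton_subset_iff.2 hzR))
          (fun g hg => mem_centralizer_singleton_iff.2 (hzP g hg))
      exact mem_centralizer_iff.2 fun g hg => mem_centralizer_singleton_iff.1 (hle (hCP hg))
    rw [eq_inv_of_mul_eq_one_left hz1]
    exact inv_mem (mem_inf.1 hd).2
  -- so `N(Z) ≤ M`, and `P₁` is a Sylow subgroup of `G`
  have hHM : normalizer (Z : Set G) ≤ M := hM.le_of_noncyclic c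
    (c.normalizer_ne_top hZ1 (c.ne_top_of_isPGroup hZp)) inf_le_right
    (inf_le_left.trans (hRA.trans hM.le)) hVc hncyc
  obtain ⟨P, hP⟩ := hP₁p.exists_le_sylow
  have hPP : (P : Subgroup G) = P₁ := by
    by_contra hne
    have hlt : P₁ < (P : Subgroup G) := lt_of_le_of_ne hP (Ne.symm hne)
    have h1 := CfsgLib.PLoc.lt_inf_normalizer_of_pgroup P.isPGroup' hlt
    have h2 : (P : Subgroup G) ⊓ normalizer (P₁ : Set G) ≤ M :=
      inf_le_right.trans ((CfsgLib.ZJCenter.normalizer_le_normalizer_zj 0 P₁).trans hHM)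
    have h3 : ((P : Subgroup G) ⊓ normalizer (P₁ : Set G)).subgroupOf M = (T : Subgroup M) :=
      T.is_maximal' ((P.isPGroup'.to_le inf_le_left).comap_of_injective M.subtype M.subtype_injective)
        fun g hg => mem_subgroupOf.2 (h1.le ⟨g, hg, rfl⟩)
    refine h1.ne ?_
    calc P₁ = ((((P : Subgroup G) ⊓ normalizer (P₁ : Set G)).subgroupOf M).map M.subtype) :=
          (congrArg (Subgroup.map M.subtype) h3).symm
      _ = _ := by rw [subgroupOf_map_subtype, inf_eq_left.2 h2]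
  exact absurd (hPP ▸ hHM) (hM.not_normalizer_zj_le c P (hPP.trans_le (map_subtype_le _)))

end IsClass

end CfsgLib.PPrimeAbelian
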