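import Cfsg.Agent.Lib.PPrimeAbelian.Local
import Cfsg.Agent.Lib.Transfer.AbelianSylow
import Cfsg.Agent.Lib.PLocal.ZJFactorization

/-!
# The minimal simple configuration: the maximal subgroup over a maximal `p'`-subgroup

For a maximal `p'`-subgroup `A` there is a proper subgroup `M` containing every proper subgroup
that contains `A`.
-/

set_option autoImplicit false
set_option linter.style.haveILetI false
set_option maxHeartbeats 400000

namespace CfsgLib.PPrimeAbelian

open Subgroup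
open scoped Pointwise

variable {p : ℕ} {G : Type*} [Group G]

/-- A minimal counterexample: a perfect simple group, all proper subgroups solvable. -/
structure Cfg (p : ℕ) (G : Type*) [Group G] : Prop where
  hyp : Hyp p G
  five : 5 ≤ p
  nt : Nontrivial G
  perfect : commutator G = ⊤
  simple : ∀ N : Subgroup G, N.Normal → N = ⊥ ∨ N = ⊤
  sol : ∀ H : Subgroup G, H ≠ ⊤ → Group.IsSolvable H

namespace Cfg

theorem not_solvable (c : Cfg p G) : ¬ Group.IsSolvable G := fun h => by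
  haveI := c.nt
  exact (Group.IsSolvable.commutator_lt_top_of_nontrivial G).ne c.perfect

theorem center_eq_bot (c : Cfg p G) : center G = ⊥ := by
  haveI := c.nt
  refine (c.simple _ inferInstance).resolve_right fun h => c.not_solvable ?_
  refine Group.isSolvable_of_comm fun a b => ?_
  exact (mem_center_iff.1 (h ▸ mem_top b) a)

theorem ne_top_of_solvable (c : Cfg p G) {U : Subgroup G} (hU : Group.IsSolvable U) : U ≠ ⊤ := by
  rintro rfl
  exact c.not_solvable (Group.isSolvable_of_surjective (f := (Subgroup.topEquiv : _ ≃* G).toMonoidHom)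
    Subgroup.topEquiv.surjective)

theorem normalizer_ne_top (c : Cfg p G) {U : Subgroup G} (h1 : U ≠ ⊥) (h2 : U ≠ ⊤) :
    normalizer (U : Set G) ≠ ⊤ := fun h =>
  ((c.simple U (Subgroup.normalizer_eq_top_iff.1 h)).elim h1 h2)

theorem centralizer_ne_top (c : Cfg p G) {x : G} (hx : x ≠ 1) : centralizer ({x} : Set G) ≠ ⊤ := by
  intro h
  apply hx
  have h1 : x ∈ center G := mem_center_iff.2 fun g => by
    have h2 : g ∈ centralizer ({x} : Set G) := h ▸ mem_top g
    exact mem_centralizer_singleton_iff.1 h2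
  rwa [c.center_eq_bot, mem_bot] at h1

theorem ne_top_of_coprime (c : Cfg p G) {U : Subgroup G} (hU : (Nat.card U).Coprime p) : U ≠ ⊤ := by
  refine c.ne_top_of_solvable ?_
  haveI := (c.hyp U hU).1
  exact Group.isSolvable_of_comm fun a b => mul_comm' a b

variable [Finite G] [hp : Fact p.Prime]

theorem ne_top_of_isPGroup (c : Cfg p G) {U : Subgroup G} (hU : IsPGroup p U) : U ≠ ⊤ := by
  refine c.ne_top_of_solvable ?_
  haveI := hU.isNilpotent
  infer_instance

end Cfg

/-- Maximal among the subgroups of order prime to `p`. -/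
def IsMaxPP (p : ℕ) (A : Subgroup G) : Prop :=
  (Nat.card A).Coprime p ∧ ∀ B : Subgroup G, A ≤ B → (Nat.card B).Coprime p → B = A

/-- `A` is a maximal `p'`-subgroup and `M` is the largest proper subgroup containing it. -/
structure IsClass (p : ℕ) (A M : Subgroup G) : Prop where
  max : IsMaxPP p A
  ne_bot : A ≠ ⊥
  ne_top : M ≠ ⊤
  le : A ≤ M
  largest : ∀ H : Subgroup G, H ≠ ⊤ → A ≤ H → H ≤ M

variable [Finite G] [hp : Fact p.Prime]

omit hp in
theorem exists_isMaxPP_ge {U : Subgroup G} (hU : (Nat.card U).Coprime p) :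
    ∃ A, IsMaxPP p A ∧ U ≤ A := by
  obtain ⟨A, hUA, hA⟩ := Finite.exists_le_maximal (p := fun B : Subgroup G => (Nat.card B).Coprime p) hU
  exact ⟨A, ⟨hA.1, fun B hB hBc => le_antisymm (hA.2 hBc hB) hB⟩, hUA⟩

/-! ## Sylow subgroups for the primes different from `p` -/

section Sylow

variable {r : ℕ} [Fact r.Prime]

theorem sylow_coprime (hrp : r ≠ p) (R : Sylow r G) : (Nat.card (R : Subgroup G)).Coprime p :=
  coprime_of_isPGroup hrp R.isPGroup'

/-- Some element of order `r` of an `r`-Sylow subgroup is moved by a `p`-element of its normalizer. -/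
theorem exists_move (c : Cfg p G) (hr : r ∣ Nat.card G) (hrp : r ≠ p) (R : Sylow r G) :
    ∃ (y : G) (k : ℕ), orderOf y = p ^ k ∧ y ∈ normalizer ((R : Subgroup G) : Set G) ∧
      ∃ v ∈ (R : Subgroup G), v ^ r = 1 ∧ y * v ≠ v * y := by
  by_contra hno
  push Not at hno
  have hRc := sylow_coprime hrp R
  have hR1 : (R : Subgroup G) ≠ ⊥ := R.ne_bot_of_dvd_card hr
  obtain ⟨x, hx, hx1⟩ := (bot_or_exists_ne_one (R : Subgroup G)).resolve_left hR1
  obtain ⟨q, n, hq, hqd, hqn⟩ := exists_pow_prime hx1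
  have hqr : q = r := by
    obtain ⟨k, hk⟩ := orderOf_eq_pow_of_mem R.isPGroup' hx
    rw [hk] at hqd
    exact (Nat.prime_dvd_prime_iff_eq hq Fact.out).1 (hq.dvd_of_dvd_pow hqd)
  set z := x ^ n
  have hz : z ∈ (R : Subgroup G) := pow_mem hx n
  have hzr : z ^ r = 1 := by rw [← hqr, ← hqn]; exact pow_orderOf_eq_one z
  have hzN : z ∈ centralizer (normalizer ((R : Subgroup G) : Set G) : Set G) := by
    rw [mem_centralizer_iff]
    intro g hg
    obtain ⟨a, b, hab, ⟨k, hk⟩, hb⟩ := CfsgLib.PNilpotent.exists_pPart_decomp (p := p) g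
    have hga : g ^ a ∈ normalizer ((R : Subgroup G) : Set G) := pow_mem hg a
    have h1 : g ^ a * z = z * g ^ a := hno _ k hk hga z hz hzr
    have hgb : zpowers (g ^ b) ≤ normalizer ((R : Subgroup G) : Set G) :=
      zpowers_le.2 (pow_mem hg b)
    have hcard : (Nat.card ((R : Subgroup G) ⊔ zpowers (g ^ b) : Subgroup G)).Coprime p :=
      Nat.Coprime.coprime_dvd_left (CfsgLib.Solvable.card_sup_dvd hgb)
        (Nat.Coprime.mul_left hRc (by rwa [Nat.card_zpowers]))
    have h2 : Commute (g ^ b) z :=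
      c.hyp.commute hcard (mem_sup_right (mem_zpowers _)) (mem_sup_left hz)
    rw [← hab]
    exact (Commute.mul_left h1 h2).eq
  have := CfsgLib.Transfer.abelian_sylow_centralPart_inf_commutator R
    (c.hyp _ hRc).1 hz hzN (by rw [c.perfect]; exact mem_top z)
  rw [this, orderOf_one] at hqn
  exact hq.one_lt.ne hqn

/-- The subgroup of solutions of `x ^ r = 1` in an abelian subgroup. -/
def omega (r : ℕ) (A : Subgroup G) (hA : IsMulCommutative A) : Subgroup G where
  carrier := {x | x ∈ A ∧ x ^ r = 1}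
  one_mem' := ⟨A.one_mem, one_pow r⟩
  mul_mem' := fun {a b} ha hb => ⟨A.mul_mem ha.1 hb.1, by
    haveI := hA
    have h : Commute a b := setLike_mul_comm ha.1 hb.1
    rw [h.mul_pow, ha.2, hb.2, one_mul]⟩
  inv_mem' := fun {a} ha => ⟨A.inv_mem ha.1, by rw [inv_pow, ha.2, inv_one]⟩

omit [Finite G] hp [Fact r.Prime] in
theorem mem_omega {A : Subgroup G} {hA : IsMulCommutative A} {x : G} :
    x ∈ omega r A hA ↔ x ∈ A ∧ x ^ r = 1 := Iff.rfl

omit [Finite G] hp [Fact r.Prime] in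
theorem omega_le {A : Subgroup G} {hA : IsMulCommutative A} : omega r A hA ≤ A := fun _ h => h.1

omit [Finite G] hp in
theorem isPGroup_omega {A : Subgroup G} {hA : IsMulCommutative A} : IsPGroup r (omega r A hA) :=
  fun x => ⟨1, Subtype.ext (by simpa using x.2.2)⟩

theorem cube_le_omega (c : Cfg p G) (hr : r ∣ Nat.card G) (hrp : r ≠ p) (R : Sylow r G) :
    r ^ 3 ≤ Nat.card (omega r (R : Subgroup G) (c.hyp _ (sylow_coprime hrp R)).1) := by
  obtain ⟨y, k, hy, hyN, v, hv, hvr, hne⟩ := exists_move c hr hrp R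
  refine cube_le_card c.five (c.hyp.prime_lt hr hrp) isPGroup_omega hy ?_ ⟨v, ⟨hv, hvr⟩, hne⟩
  rw [mem_normalizer_iff]
  intro x
  simp only [mem_omega, conj_pow, conj_eq_one_iff]
  rw [mem_normalizer_iff.1 hyN x]

/-- In an abelian subgroup containing `R`, the `r`-elements lie in `R`. -/
theorem mem_sylow_of_mem {R : Sylow r G} {A : Subgroup G} [IsMulCommutative A]
    (hRA : (R : Subgroup G) ≤ A) {x : G} (hx : x ∈ A) {k : ℕ} (hk : orderOf x = r ^ k) :
    x ∈ (R : Subgroup G) := by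
  have hn : zpowers x ≤ normalizer ((R : Subgroup G) : Set G) := by
    refine zpowers_le.2 (mem_normalizer_iff.2 fun y => ?_)
    constructor
    · intro hy
      have : x * y * x⁻¹ = y := by rw [show x * y = y * x from setLike_mul_comm hx (hRA hy)]; simp
      rwa [this]
    · intro hy
      have h1 : x * (x * y * x⁻¹) = x * y * x⁻¹ * x := setLike_mul_comm hx (hRA hy)
      rw [mul_assoc (x * y) x⁻¹ x, inv_mul_cancel, mul_one] at h1
      have h2 : x * y * x⁻¹ = y := mul_left_cancel h1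
      rwa [h2] at hy
  obtain ⟨m, hm⟩ := R.isPGroup'.exists_card_eq
  have hd := CfsgLib.Solvable.card_sup_dvd hn
  rw [show Nat.card (R : Subgroup G) = r ^ m from hm, Nat.card_zpowers, hk, ← pow_add] at hd
  obtain ⟨j, -, hj⟩ := (Nat.dvd_prime_pow Fact.out).1 hd
  have := R.is_maximal' (IsPGroup.of_card hj) le_sup_left
  exact this ▸ mem_sup_right (mem_zpowers x)

end Sylow

/-! ## Uniqueness of the maximal `A`-invariant `p`-subgroup -/

/-- A `p`-subgroup normalized by `A`. -/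
def IsInv (p : ℕ) (A U : Subgroup G) : Prop :=
  IsPGroup p U ∧ A ≤ normalizer (U : Set G)

theorem exists_fixed_hyperplane {r : ℕ} [Fact r.Prime] {E U : Subgroup G} (hEc : IsMulCommutative E)
    (hEp : (Nat.card E).Coprime p) (hE : ∀ e ∈ E, e ^ r = 1) (hU : IsPGroup p U) (hU1 : U ≠ ⊥)
    (hEU : E ≤ normalizer (U : Set G)) :
    ∃ B ≤ E, Nat.card E ≤ r * Nat.card B ∧ U ⊓ centralizer (B : Set G) ≠ ⊥ := by
  haveI := hEc
  by_contra hno
  push Not at hno
  refine hU1 (eq_bot_iff.2 (CfsgLib.Solvable.le_of_cyclic_quotient_centralizer_le hEU ?_ ?_))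
  · obtain ⟨n, hn⟩ := hU.exists_card_eq
    rw [hn]
    exact hEp.pow_right n
  · rintro B hB ⟨a, ha, hEB⟩
    refine (hno B hB ?_).le
    have hn : zpowers a ≤ normalizer (B : Set G) := zpowers_le.2 (mem_normalizer_iff.2 fun x => by
      constructor
      · intro hx
        have : a * x * a⁻¹ = x := by rw [show a * x = x * a from setLike_mul_comm ha (hB hx)]; simp
        rwa [this]
      · intro hx
        have h1 : a * (a * x * a⁻¹) = a * x * a⁻¹ * a := setLike_mul_comm ha (hB hx)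
        rw [mul_assoc (a * x) a⁻¹ a, inv_mul_cancel, mul_one] at h1
        rwa [mul_left_cancel h1] at hx)
    refine (card_le_of_le hEB).trans ((Nat.le_of_dvd (Nat.mul_pos Nat.card_pos Nat.card_pos)
      (CfsgLib.Solvable.card_sup_dvd hn)).trans ?_)
    rw [mul_comm r, Nat.card_zpowers]
    exact Nat.mul_le_mul_left _ (Nat.le_of_dvd (Fact.out : r.Prime).pos
      (orderOf_dvd_of_pow_eq_one (hE a ha)))

/-- Two hyperplanes of an elementary group of order at least `r³` meet. -/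
theorem inf_hyperplanes_ne_bot {r : ℕ} [Fact r.Prime] {E B₁ B₂ : Subgroup G}
    (hEc : IsMulCommutative E) (h1 : B₁ ≤ E) (h2 : B₂ ≤ E) (hE : r ^ 3 ≤ Nat.card E)
    (hc1 : Nat.card E ≤ r * Nat.card B₁) (hc2 : Nat.card E ≤ r * Nat.card B₂) : B₁ ⊓ B₂ ≠ ⊥ := by
  haveI := hEc
  intro h
  have hn : B₂ ≤ normalizer (B₁ : Set G) := fun b hb => mem_normalizer_iff.2 fun x => by
    constructor
    · intro hx
      have : b * x * b⁻¹ = x := by rw [show b * x = x * b from setLike_mul_comm (h2 hb) (h1 hx)]; simp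
      rwa [this]
    · intro hx
      have h1' : b * (b * x * b⁻¹) = b * x * b⁻¹ * b := setLike_mul_comm (h2 hb) (h1 hx)
      rw [mul_assoc (b * x) b⁻¹ b, inv_mul_cancel, mul_one] at h1'
      rwa [mul_left_cancel h1'] at hx
  have hcard := CfsgLib.Solvable.card_sup_of_disjoint hn (disjoint_iff.2 h)
  have hle := card_le_of_le (sup_le h1 h2)
  rw [hcard] at hle
  have hr : 1 < r := (Fact.out : r.Prime).one_lt
  have h3 : Nat.card E * Nat.card E ≤ r * r * Nat.card E :=
    (Nat.mul_le_mul hc1 hc2).trans (by rw [mul_mul_mul_comm]; exact Nat.mul_le_mul_left _ hle)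
  have h4 : Nat.card E ≤ r * r := Nat.le_of_mul_le_mul_right h3 Nat.card_pos
  have h5 : r * r < r ^ 3 := by
    rw [pow_succ, sq]
    exact lt_mul_of_one_lt_right (Nat.mul_pos (by omega) (by omega)) hr
  omega

theorem exists_largest (c : Cfg p G) {r : ℕ} [Fact r.Prime] (hr : r ∣ Nat.card G) (hrp : r ≠ p)
    (R : Sylow r G) {A : Subgroup G} (hA : IsMaxPP p A) (hRA : (R : Subgroup G) ≤ A) :
    ∃ M, IsClass p A M := by
  haveI hAc := (c.hyp A hA.1).1
  have hA1 : A ≠ ⊥ := fun h => R.ne_bot_of_dvd_card hr (le_bot_iff.1 (h ▸ hRA))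
  set E := omega r (R : Subgroup G) (c.hyp _ (sylow_coprime hrp R)).1
  have hEA : E ≤ A := omega_le.trans hRA
  have hEc : IsMulCommutative E := (c.hyp E (hA.1.coprime_dvd_left (card_dvd_of_le hEA))).1
  have hE3 : r ^ 3 ≤ Nat.card E := cube_le_omega c hr hrp R
  -- invariant `p`-subgroups of a proper overgroup lie in its `p`-core
  have hcore : ∀ H : Subgroup G, H ≠ ⊤ → A ≤ H → IsInv p A (Cfsg.pCoreOf p H) ∧
      ∀ U, IsInv p A U → U ≤ H → U ≤ Cfsg.pCoreOf p H := by
    intro H hH hAH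
    haveI := c.sol H hH
    have hall := hallIn_of_maximal hAH hA.1 hA.2
    exact ⟨⟨pCoreOf_isPGroup p H, hAH.trans (le_normalizer_pCoreOf p H)⟩,
      fun U hU hUH => pgroup_le_core c.hyp hall hUH hU.1 hU.2⟩
  have hmax : ∀ U, IsInv p A U → ∃ V, IsInv p A V ∧ U ≤ V ∧ ∀ V', IsInv p A V' → V ≤ V' → V' = V := by
    intro U hU
    obtain ⟨V, hUV, hV⟩ := Finite.exists_le_maximal (p := IsInv p A) hU
    exact ⟨V, hV.1, hUV, fun V' h h' => le_antisymm (hV.2 h h') h'⟩
  have hinf : ∀ U V : Subgroup G, IsInv p A U → A ≤ normalizer (V : Set G) →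
      IsInv p A (U ⊓ V) := fun U V hU hV =>
    ⟨hU.1.to_le inf_le_left, fun a ha => inf_normalizer_le_normalizer_inf ⟨hU.2 ha, hV ha⟩⟩
  -- any two nontrivial maximal ones are equal
  have huniq : ∀ (n : ℕ) (U₁ U₂ : Subgroup G), Nat.card G - Nat.card (U₁ ⊓ U₂ : Subgroup G) = n →
      IsInv p A U₁ → (∀ V', IsInv p A V' → U₁ ≤ V' → V' = U₁) → U₁ ≠ ⊥ →
      IsInv p A U₂ → (∀ V', IsInv p A V' → U₂ ≤ V' → V' = U₂) → U₂ ≠ ⊥ → U₁ = U₂ := by
    intro n
    induction n using Nat.strong_induction_on with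
    | _ n ih =>
    intro U₁ U₂ hn h1 hm1 hb1 h2 hm2 hb2
    have hbig : ∀ U V : Subgroup G, U₁ ⊓ U₂ < U ⊓ V →
        Nat.card G - Nat.card (U ⊓ V : Subgroup G) < n := by
      intro U V hlt
      have h3 : Nat.card (U₁ ⊓ U₂ : Subgroup G) < Nat.card (U ⊓ V : Subgroup G) :=
        lt_of_le_of_ne (card_le_of_le hlt.le) fun e => hlt.ne (eq_of_le_of_card_ge hlt.le e.ge)
      have := card_le_of_le (le_top (a := U ⊓ V))
      rw [card_top] at this
      omega
    set X := U₁ ⊓ U₂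
    rcases eq_or_ne X ⊥ with hX | hX
    · obtain ⟨B₁, hB₁, hc1, hne1⟩ := exists_fixed_hyperplane (p := p) (r := r) hEc
        (hA.1.coprime_dvd_left (card_dvd_of_le hEA)) (fun e he => he.2) h1.1 hb1 (hEA.trans h1.2)
      obtain ⟨B₂, hB₂, hc2, hne2⟩ := exists_fixed_hyperplane (p := p) (r := r) hEc
        (hA.1.coprime_dvd_left (card_dvd_of_le hEA)) (fun e he => he.2) h2.1 hb2 (hEA.trans h2.2)
      obtain ⟨e, he, he1⟩ := (bot_or_exists_ne_one (B₁ ⊓ B₂)).resolve_left
        (inf_hyperplanes_ne_bot hEc hB₁ hB₂ hE3 hc1 hc2)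
      set H := centralizer ({e} : Set G)
      have hAH : A ≤ H := fun a ha =>
        mem_centralizer_singleton_iff.2 (setLike_mul_comm ha (hEA (hB₁ he.1)))
      obtain ⟨hO, hOle⟩ := hcore H (c.centralizer_ne_top he1) hAH
      have hsub : ∀ U B : Subgroup G, IsInv p A U → e ∈ B → U ⊓ centralizer (B : Set G) ≠ ⊥ →
          U ⊓ Cfsg.pCoreOf p H ≠ ⊥ := by
        intro U B hU heB hne h0
        apply hne
        rw [eq_bot_iff, ← h0]
        refine le_inf inf_le_left (le_trans ?_ (hOle (U ⊓ H) (hinf U H hU (hAH.trans le_normalizer))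
          inf_le_right))
        exact inf_le_inf_left U (centralizer_le (Set.singleton_subset_iff.2 heB))
      obtain ⟨V, hV, hOV, hVm⟩ := hmax _ hO
      have hn1 : U₁ ⊓ V ≠ ⊥ :=
        ne_bot_of_le_ne_bot (hsub U₁ B₁ h1 he.1 hne1) (inf_le_inf_left _ hOV)
      have hn2 : U₂ ⊓ V ≠ ⊥ :=
        ne_bot_of_le_ne_bot (hsub U₂ B₂ h2 he.2 hne2) (inf_le_inf_left _ hOV)
      have hVb : V ≠ ⊥ := fun h0 => hn1 (by rw [h0, inf_bot_eq])
      have e1 : U₁ = V := ih _ (hbig _ _ (by rw [hX]; exact bot_lt_iff_ne_bot.2 hn1)) U₁ V rfl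
        h1 hm1 hb1 hV hVm hVb
      have e2 : U₂ = V := ih _ (hbig _ _ (by rw [hX]; exact bot_lt_iff_ne_bot.2 hn2)) U₂ V rfl
        h2 hm2 hb2 hV hVm hVb
      rw [e1, e2]
    · set H := normalizer (X : Set G)
      have hXinv : IsInv p A X := hinf U₁ U₂ h1 h2.2
      have hH : H ≠ ⊤ := c.normalizer_ne_top hX (c.ne_top_of_isPGroup hXinv.1)
      obtain ⟨hO, hOle⟩ := hcore H hH hXinv.2
      obtain ⟨V, hV, hOV, hVm⟩ := hmax _ hO
      by_contra hne
      have hlt1 : X < U₁ := lt_of_le_of_ne inf_le_left fun h =>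
        hne (hm1 U₂ h2 (h ▸ inf_le_right)).symm
      have hlt2 : X < U₂ := lt_of_le_of_ne inf_le_right fun h =>
        hne (hm2 U₁ h1 (h ▸ inf_le_left))
      have hgrow : ∀ U : Subgroup G, IsInv p A U → X < U → X < U ⊓ V := by
        intro U hU hlt
        have hg : X < U ⊓ H := CfsgLib.PLoc.lt_inf_normalizer_of_pgroup hU.1 hlt
        exact hg.trans_le (le_inf inf_le_left
          ((hOle (U ⊓ H) (hinf U H hU (hXinv.2.trans le_normalizer)) inf_le_right).trans hOV))
      have hVb : V ≠ ⊥ := fun h0 => by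
        have := hgrow U₁ h1 hlt1
        rw [h0, inf_bot_eq] at this
        exact not_lt_bot this
      have e1 : U₁ = V := ih _ (hbig _ _ (hgrow U₁ h1 hlt1)) U₁ V rfl h1 hm1 hb1 hV hVm hVb
      have e2 : U₂ = V := ih _ (hbig _ _ (hgrow U₂ h2 hlt2)) U₂ V rfl h2 hm2 hb2 hV hVm hVb
      exact hne (e1.trans e2.symm)
  obtain ⟨W, hW, hWall⟩ : ∃ W, IsInv p A W ∧ ∀ U, IsInv p A U → U ≤ W := by
    by_cases hall : ∀ U, IsInv p A U → U = ⊥
    · exact ⟨⊥, ⟨IsPGroup.of_card (n := 0) (by simp),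
        le_top.trans (Subgroup.normalizer_eq_top_iff.2 inferInstance).ge⟩, fun U hU => (hall U hU).le⟩
    · push Not at hall
      obtain ⟨U₀, hU₀, hne₀⟩ := hall
      obtain ⟨W, hW, hle, hWm⟩ := hmax U₀ hU₀
      refine ⟨W, hW, fun U hU => ?_⟩
      rcases eq_or_ne U ⊥ with h | h
      · exact h ▸ bot_le
      · obtain ⟨V, hV, hUV, hVm⟩ := hmax U hU
        rw [huniq _ W V rfl hW hWm (ne_bot_of_le_ne_bot hne₀ hle) hV hVm (ne_bot_of_le_ne_bot h hUV)]
        exact hUV
  have hNW : normalizer (A : Set G) ≤ normalizer (W : Set G) := by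
    intro g hg
    have hinv : IsInv p A (MulAut.conj g • W) := by
      refine ⟨hW.1.map _, fun a ha => ?_⟩
      have ha' : g⁻¹ * a * g ∈ A := by
        have := (mem_normalizer_iff.1 (inv_mem hg) a).1 ha
        simpa using this
      have := CfsgLib.Solvable.conj_smul_eq_self_iff.2 (hW.2 ha')
      refine CfsgLib.Solvable.conj_smul_eq_self_iff.1 ?_
      conv_rhs => rw [← this]
      rw [CfsgLib.Solvable.conj_smul_conj_smul, CfsgLib.Solvable.conj_smul_conj_smul]
      congr 2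
      simp [mul_assoc]
    exact CfsgLib.Solvable.conj_smul_eq_self_iff.1
      (eq_of_le_of_card_ge (hWall _ hinv) (CfsgLib.Solvable.card_conj_smul g W).ge)
  have hdec : ∀ H : Subgroup G, H ≠ ⊤ → A ≤ H → ∀ h ∈ H,
      ∃ o ∈ W, ∃ n ∈ normalizer (A : Set G), h = o * n := by
    intro H hH hAH h hh
    haveI := c.sol H hH
    obtain ⟨o, ho, n, hn, -, he⟩ :=
      exists_core_mul_normalizer c.hyp (hallIn_of_maximal hAH hA.1 hA.2) hh
    exact ⟨o, hWall _ (hcore H hH hAH).1 ho, n, hn, he⟩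
  rcases eq_or_ne W ⊥ with h0 | h0
  · refine ⟨normalizer (A : Set G), hA, hA1,
      c.normalizer_ne_top hA1 (c.ne_top_of_coprime hA.1), le_normalizer, fun H hH hAH h hh => ?_⟩
    obtain ⟨o, ho, n, hn, rfl⟩ := hdec H hH hAH h hh
    rw [h0, mem_bot] at ho
    rwa [ho, one_mul]
  · refine ⟨normalizer (W : Set G), hA, hA1,
      c.normalizer_ne_top h0 (c.ne_top_of_isPGroup hW.1), le_normalizer.trans hNW,
      fun H hH hAH h hh => ?_⟩
    obtain ⟨o, ho, n, hn, rfl⟩ := hdec H hH hAH h hh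
    exact mul_mem (le_normalizer ho) (hNW hn)

/-! ## Consequences -/

/-- Every nontrivial maximal `p'`-subgroup has a largest overgroup, and contains a full Sylow
subgroup for each prime divisor of its order. -/
theorem exists_class_sylow (c : Cfg p G) {A : Subgroup G} (hA : IsMaxPP p A) {r : ℕ} [Fact r.Prime]
    (hr : r ∣ Nat.card A) :
    (∃ M, IsClass p A M) ∧ ∃ R : Sylow r G, (R : Subgroup G) ≤ A := by
  have hrp : r ≠ p := fun h => (Fact.out : r.Prime).ne_one
    (Nat.eq_one_of_dvd_coprimes hA.1 hr (h ▸ dvd_rfl))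
  haveI := (c.hyp A hA.1).1
  obtain ⟨a, ha⟩ := exists_prime_orderOf_dvd_card' (G := A) r hr
  have ha1 : (a : G) ≠ 1 := fun h => (Fact.out : r.Prime).ne_one
    (by rw [← ha, show a = 1 from Subtype.ext h, orderOf_one])
  have hap : IsPGroup r (zpowers (a : G)) :=
    IsPGroup.of_card (n := 1) (by rw [Nat.card_zpowers, orderOf_coe, ha, pow_one])
  obtain ⟨R, hR⟩ := hap.exists_le_sylow
  have haR : (a : G) ∈ (R : Subgroup G) := hR (mem_zpowers _)
  obtain ⟨A₀, hA₀, hRA₀⟩ := exists_isMaxPP_ge (sylow_coprime hrp R)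
  have hrG : r ∣ Nat.card G := hr.trans (card_subgroup_dvd_card A)
  obtain ⟨M, hM⟩ := exists_largest c hrG hrp R hA₀ hRA₀
  haveI := (c.hyp A₀ hA₀.1).1
  set H := centralizer ({(a : G)} : Set G)
  have hAH : A ≤ H := fun x hx => mem_centralizer_singleton_iff.2 (setLike_mul_comm hx a.2)
  have hA₀H : A₀ ≤ H := fun x hx => mem_centralizer_singleton_iff.2 (setLike_mul_comm hx (hRA₀ haR))
  haveI := c.sol M hM.ne_top
  have hAM : A ≤ M := hAH.trans (hM.largest H (c.centralizer_ne_top ha1) hA₀H)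
  obtain ⟨h, hh, hle⟩ := exists_conj_le_hallIn (hallIn_of_maximal hM.le hA₀.1 hA₀.2) hAM hA.1
  have heq : MulAut.conj h⁻¹ • A₀ = A := by
    refine hA.2 _ ?_ (by rw [CfsgLib.Solvable.card_conj_smul]; exact hA₀.1)
    rw [map_inv]
    exact pointwise_smul_subset_iff.1 hle
  refine ⟨⟨M, hA, ?_, hM.ne_top, hAM, fun K hK hAK => ?_⟩, h⁻¹ • R, ?_⟩
  · exact fun h0 => ha1 (by simpa [h0] using a.2)
  · have hK' : A₀ ≤ MulAut.conj h • K := by
      calc A₀ = MulAut.conj h • A := by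
            rw [← heq, CfsgLib.Solvable.conj_smul_conj_smul, mul_inv_cancel, map_one, one_smul]
        _ ≤ _ := pointwise_smul_le_pointwise_smul_iff.2 hAK
    have hne : MulAut.conj h • K ≠ ⊤ := fun e => hK (by
      have h2 := congrArg (fun T : Subgroup G => Nat.card T) e
      simp only [CfsgLib.Solvable.card_conj_smul, card_top] at h2
      exact (card_eq_iff_eq_top K).1 h2)
    intro x hx
    have := CfsgLib.Solvable.conj_smul_le_iff.1 (hM.largest _ hne hK') x hx
    simpa [mul_assoc] using mul_mem (mul_mem (inv_mem hh) this) hh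
  · rw [Sylow.coe_subgroup_smul, ← heq]
    exact pointwise_smul_le_pointwise_smul_iff.2 hRA₀

theorem exists_class_ge (c : Cfg p G) {U : Subgroup G} (hU : (Nat.card U).Coprime p) (hU1 : U ≠ ⊥) :
    ∃ A M, IsClass p A M ∧ U ≤ A := by
  obtain ⟨A, hA, hUA⟩ := exists_isMaxPP_ge hU
  obtain ⟨r, hr, hd⟩ := Nat.exists_prime_and_dvd (n := Nat.card A)
    (fun h => hU1 (le_bot_iff.1 (card_eq_one.1 h ▸ hUA)))
  haveI : Fact r.Prime := ⟨hr⟩
  obtain ⟨⟨M, hM⟩, -⟩ := exists_class_sylow c hA hd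
  exact ⟨A, M, hM, hUA⟩

namespace IsClass

variable {A M : Subgroup G}

theorem hallIn (hM : IsClass p A M) (c : Cfg p G) : HallIn p A M :=
  haveI := c.sol M hM.ne_top
  hallIn_of_maximal hM.le hM.max.1 hM.max.2

theorem exists_conj_le (hM : IsClass p A M) (c : Cfg p G) {U : Subgroup G} (hUM : U ≤ M)
    (hU : (Nat.card U).Coprime p) : ∃ m ∈ M, MulAut.conj m • U ≤ A :=
  haveI := c.sol M hM.ne_top
  exists_conj_le_hallIn (hM.hallIn c) hUM hU

theorem centralizer_le (hM : IsClass p A M) (c : Cfg p G) {x : G} (hx : x ∈ M)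
    (hxc : (orderOf x).Coprime p) (hx1 : x ≠ 1) : centralizer ({x} : Set G) ≤ M := by
  obtain ⟨m, hm, hle⟩ := hM.exists_conj_le c (zpowers_le.2 hx) (by rwa [Nat.card_zpowers])
  have ha : m * x * m⁻¹ ∈ A := CfsgLib.Solvable.conj_smul_le_iff.1 hle x (mem_zpowers x)
  haveI := (c.hyp A hM.max.1).1
  have hC := hM.largest _ (c.centralizer_ne_top (x := m * x * m⁻¹) (by simpa using hx1))
    (fun a h => mem_centralizer_singleton_iff.2 (setLike_mul_comm h ha))
  intro y hy
  have h1 : m * y * m⁻¹ ∈ centralizer ({m * x * m⁻¹} : Set G) := by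
    rw [mem_centralizer_singleton_iff]
    simp only [mul_assoc, inv_mul_cancel_left]
    rw [← mul_assoc y, mem_centralizer_singleton_iff.1 hy, mul_assoc]
  simpa [mul_assoc] using mul_mem (mul_mem (inv_mem hm) (hC h1)) hm

theorem mem_of_conj (hM : IsClass p A M) (c : Cfg p G) {x g : G} (hx : x ∈ M)
    (hg : g * x * g⁻¹ ∈ M) (hxc : (orderOf x).Coprime p) (hx1 : x ≠ 1) : g ∈ M := by
  obtain ⟨r, n, hr, hrd, hn⟩ := exists_pow_prime hx1
  haveI : Fact r.Prime := ⟨hr⟩
  set z := x ^ n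
  have hz : z ∈ M := pow_mem hx n
  have hzg : g * z * g⁻¹ ∈ M := by
    rw [show g * z * g⁻¹ = (g * x * g⁻¹) ^ n by rw [conj_pow]]
    exact pow_mem hg n
  have hrc : r.Coprime p := hxc.coprime_dvd_left hrd
  have hconjA : ∀ y ∈ M, orderOf y = r → ∃ m ∈ M, m * y * m⁻¹ ∈ A := by
    intro y hy ho
    obtain ⟨m, hm, hle⟩ := hM.exists_conj_le c (zpowers_le.2 hy) (by rw [Nat.card_zpowers, ho]; exact hrc)
    exact ⟨m, hm, CfsgLib.Solvable.conj_smul_le_iff.1 hle y (mem_zpowers y)⟩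
  obtain ⟨m₁, hm₁, ha₁⟩ := hconjA z hz hn
  obtain ⟨m₂, hm₂, ha₂⟩ := hconjA _ hzg (by rw [← hn]; exact (MulAut.conj g).orderOf_eq z)
  have ho1 : orderOf (m₁ * z * m₁⁻¹) = r := by rw [← hn]; exact (MulAut.conj m₁).orderOf_eq z
  have ho2 : orderOf (m₂ * (g * z * g⁻¹) * m₂⁻¹) = r := by
    rw [← hn]; exact ((MulAut.conj m₂).orderOf_eq _).trans ((MulAut.conj g).orderOf_eq z)
  have hrA : r ∣ Nat.card A := ho1 ▸ (orderOf_mk (m₁ * z * m₁⁻¹) ha₁ ▸ orderOf_dvd_natCard _)
  obtain ⟨-, R, hRA⟩ := exists_class_sylow c hM.max hrA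
  haveI := (c.hyp A hM.max.1).1
  have hcR : A ≤ centralizer ((R : Subgroup G) : Set G) := fun a ha =>
    mem_centralizer_iff.2 fun b hb => setLike_mul_comm (hRA hb) ha
  set h := m₂ * g * m₁⁻¹
  have he : h * (m₁ * z * m₁⁻¹) * h⁻¹ = m₂ * (g * z * g⁻¹) * m₂⁻¹ := by simp [h, mul_assoc]
  obtain ⟨w, hw, hweq⟩ := CfsgLib.Transfer.burnside_fusion_central R (hcR ha₁) (hcR ha₂) he
  have hR1 : (R : Subgroup G) ≠ ⊥ := R.ne_bot_of_dvd_card (hrA.trans (card_subgroup_dvd_card A))
  have hN : normalizer ((R : Subgroup G) : Set G) ≤ M := by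
    refine hM.largest _ (c.normalizer_ne_top hR1 (c.ne_top_of_coprime
      (hM.max.1.coprime_dvd_left (card_dvd_of_le hRA)))) fun a ha => ?_
    exact Subgroup.centralizer_le_normalizer _ (hcR ha)
  have hk : w⁻¹ * h ∈ centralizer ({m₁ * z * m₁⁻¹} : Set G) := by
    rw [mem_centralizer_singleton_iff]
    have h1 := he.trans hweq.symm
    calc w⁻¹ * h * (m₁ * z * m₁⁻¹) = w⁻¹ * (h * (m₁ * z * m₁⁻¹) * h⁻¹) * h := by simp [mul_assoc]
      _ = w⁻¹ * (w * (m₁ * z * m₁⁻¹) * w⁻¹) * h := by rw [h1]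
      _ = m₁ * z * m₁⁻¹ * (w⁻¹ * h) := by simp [mul_assoc]
  have hkM : w⁻¹ * h ∈ M := hM.centralizer_le c (hM.le ha₁) (by rw [ho1]; exact hrc)
    (fun h1 => hr.ne_one (by rw [← ho1, h1, orderOf_one])) hk
  have hhM : h ∈ M := by simpa using mul_mem (hN hw) hkM
  simpa [h, mul_assoc] using mul_mem (mul_mem (inv_mem hm₂) hhM) hm₁

theorem normalizer_le (hM : IsClass p A M) (c : Cfg p G) {U : Subgroup G} (hUM : U ≤ M)
    (hU : (Nat.card U).Coprime p) (hU1 : U ≠ ⊥) : normalizer (U : Set G) ≤ M := fun g hg => by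
  obtain ⟨u, hu, hu1⟩ := (bot_or_exists_ne_one U).resolve_left hU1
  exact hM.mem_of_conj c (hUM hu) (hUM ((mem_normalizer_iff.1 hg u).1 hu)) (coprime_of_mem hU hu) hu1

/-- A proper subgroup meeting `M` in a noncyclic `p'`-subgroup lies in `M`. -/
theorem le_of_noncyclic (hM : IsClass p A M) (c : Cfg p G) {H U : Subgroup G} (hH : H ≠ ⊤)
    (hUH : U ≤ H) (hUM : U ≤ M) (hU : (Nat.card U).Coprime p) (hcyc : ¬ IsCyclic U) : H ≤ M := by
  haveI := c.sol H hH
  obtain ⟨A', hA', hUA'⟩ := exists_hallIn_ge hUH hU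
  haveI := (c.hyp A' hA'.coprime).1
  haveI := (c.hyp U hU).1
  have hU1 : U ≠ ⊥ := fun h => hcyc (h ▸ isCyclic_of_subsingleton)
  obtain ⟨u, hu, hu1⟩ := (bot_or_exists_ne_one U).resolve_left hU1
  have hA'M : A' ≤ M := fun x hx => hM.centralizer_le c (hUM hu) (coprime_of_mem hU hu) hu1
    (mem_centralizer_singleton_iff.2 (setLike_mul_comm hx (hUA' hu)))
  set O := Cfsg.pCoreOf p H
  have hO : O ≤ M := by
    refine CfsgLib.Solvable.le_of_centralizer_le hcyc (hUH.trans (le_normalizer_pCoreOf p H)) ?_ ?_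
    · obtain ⟨k, hk⟩ := (pCoreOf_isPGroup p H).exists_card_eq
      rw [show Nat.card O = p ^ k from hk]
      exact hU.pow_right k
    · intro v hv hv1
      exact inf_le_right.trans (hM.centralizer_le c (hUM hv) (coprime_of_mem hU hv) hv1)
  intro h hh
  obtain ⟨o, ho, n, hn, -, rfl⟩ := exists_core_mul_normalizer c.hyp hA' hh
  refine mul_mem (hO ho) ?_
  exact hM.mem_of_conj c (hUM hu) (hA'M ((mem_normalizer_iff.1 hn u).1 (hUA' hu)))
    (coprime_of_mem hU hu) hu1

end IsClass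

end CfsgLib.PPrimeAbelian
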